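import Groth.Agent.L29.Sib.SkyMono
import Groth.Agent.L29.DCoh.QCohColim
import Groth.Agent.L29.DCoh.QCohOps
import Groth.Agent.L29.DCoh.QCohLocal
import Groth.Agent.L17.HTor.Acyc
import Mathlib.CategoryTheory.Limits.ConcreteCategory.Basic

/-!
Maximal quasi-coherent injective submodules; quasi-coherent modules on a locally Noetherian scheme embed in
quasi-coherent injective modules.
-/

set_option autoImplicit false
set_option backward.defeqAttrib.useBackward true
set_option backward.isDefEq.respectTransparency false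
set_option linter.style.haveILetI false

universe u

open CategoryTheory CategoryTheory.Limits AlgebraicGeometry TopologicalSpace Opposite
open scoped ZeroObject

namespace Groth.L29.InjSub

open Groth.L29.LocNoeth (st st_germ st_comp st_injective gen genSec exists_smul_germ subsingleton_stalk_gen)

variable {X : Scheme.{u}} [IsLocallyNoetherian X]

/-- good subobjects -/
def Good (Z : Set X) {E : X.Modules} (S : Subobject E) : Prop :=
  Coh.IsQCoh (S : X.Modules) ∧ Injective (S : X.Modules) ∧
    ∀ z ∉ Z, Subsingleton ((S : X.Modules).presheaf.stalk z)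

theorem good_of_iso {Z : Set X} {E : X.Modules} {S : Subobject E} {Q : X.Modules} (e : Q ≅ (S : X.Modules))
    (h1 : Coh.IsQCoh Q) (h2 : Injective Q) (h3 : ∀ z ∉ Z, Subsingleton (Q.presheaf.stalk z)) : Good Z S := by
  refine ⟨Groth.L29.DC.isQCoh_of_iso' e h1, Injective.of_iso e h2, fun z hz => ?_⟩
  haveI := h3 z hz
  have hs : Function.Surjective (st e.hom z) := (ModuleCat.epi_iff_surjective _).1
    (inferInstance : Epi ((Groth.L00.Stk.F X z).map e.hom))
  exact hs.subsingleton

theorem good_bot (Z : Set X) (E : X.Modules) : Good Z (⊥ : Subobject E) := by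
  refine good_of_iso (Subobject.botCoeIsoZero (B := E)).symm (Groth.L29.DC.isQCoh_of_isZero (isZero_zero _))
    inferInstance fun z _ => ?_
  exact (Groth.L21.Mod.isZero_iff_stalk_subsingleton _).1 (isZero_zero _) z

/-- A wrapper for index types. -/
structure Idx (α : Type u) : Type u where
  /-- The underlying element. -/
  val : α

theorem exists_good_ge_chain (Z : Set X) {E : X.Modules} (c : Set (Subobject E)) (hc : c ⊆ {T | Good Z T})
    (hch : IsChain (· ≤ ·) c) (hne : c.Nonempty) : ∃ U, Good Z U ∧ ∀ T ∈ c, T ≤ U := by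
  have : Small.{u} c := inferInstance
  let J := Idx (Shrink.{u} c)
  let : Preorder J := Preorder.lift fun j => ((equivShrink c).symm j.val).1
  haveI : Nonempty J := ⟨⟨equivShrink c ⟨_, hne.some_mem⟩⟩⟩
  haveI : IsDirectedOrder J := ⟨fun a b => by
      rcases hch.total ((equivShrink c).symm a.val).2 ((equivShrink c).symm b.val).2 with h | h
      · exact ⟨b, h, le_rfl⟩
      · exact ⟨a, le_rfl, h⟩⟩
  haveI : IsFiltered J := inferInstance
  let T : J → Subobject E := fun j => ((equivShrink c).symm j.val).1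
  have hT : ∀ j, Good Z (T j) := fun j => hc ((equivShrink c).symm j.val).2
  let F : J ⥤ MonoOver E :=
    { obj := fun j => MonoOver.mk (T j).arrow
      map := fun {i j} h => MonoOver.homMk (Subobject.ofLE _ _ (show T i ≤ T j from (leOfHom h : i ≤ j))) }
  let D := F ⋙ MonoOver.forget _ ⋙ Over.forget _
  let f : colimit D ⟶ E := colimit.desc D (Cocone.mk _
    { app := fun j => (T j).arrow, naturality := fun i j h => by simp [D, F, MonoOver.forget] })
  have hf : ∀ j, colimit.ι D j ≫ f = (T j).arrow := fun j => by simp [f]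
  haveI : Mono f := IsGrothendieckAbelian.mono_of_isColimit_monoOver F (colimit.isColimit D) f hf
  haveI : ∀ j, Mono (colimit.ι D j) := fun j => mono_of_mono_fac (hf j)
  let q : ∀ j : J, colimit D ⟶ cokernel (colimit.ι D j) := fun j => cokernel.π _
  have hrep : ∀ (y : X) (l : (colimit D).presheaf.stalk y), ∃ (j : J) (v : (D.obj j).presheaf.stalk y),
      st (colimit.ι D j) y v = l := fun y l =>
    by
    haveI : PreservesColimit (D ⋙ Groth.L00.Stk.F X y) (forget (ModuleCat.{u} (X.presheaf.stalk y))) := inferInstance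
    obtain ⟨j, v, h⟩ := Concrete.isColimit_exists_rep (D ⋙ Groth.L00.Stk.F X y)
      (isColimitOfPreserves (Groth.L00.Stk.F X y) (colimit.isColimit D)) l
    exact ⟨j, v, h⟩
  have hzero : ∀ (j : J) (y : X) (v : (D.obj j).presheaf.stalk y), st (q j) y (st (colimit.ι D j) y v) = 0 := by
    intro j y v
    rw [← st_comp, cokernel.condition]
    exact congr(($((DerSch.stalkFunctor X y).map_zero (D.obj j) (cokernel (colimit.ι D j)))).hom v)
  have hqx : ∀ (y : X) (l : (colimit D).presheaf.stalk y), ∃ j, st (q j) y l = 0 := fun y l => by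
    obtain ⟨j, v, rfl⟩ := hrep y l
    exact ⟨j, hzero j y v⟩
  have hq : ∀ a b : J, a ≤ b → ∀ (y : X) (l : (colimit D).presheaf.stalk y),
      st (q a) y l = 0 → st (q b) y l = 0 := by
    intro a b hab y l hl
    have h : colimit.ι D a ≫ q b = 0 := by
      rw [← colimit.w D (homOfLE hab), Category.assoc, cokernel.condition, comp_zero]
    rw [← cokernel.π_desc (colimit.ι D a) (q b) h, st_comp, hl, map_zero]
  have hinj : Injective (colimit D) := by
    refine Groth.L10.Baer.injective_of_baer _ Groth.L29.LocNoeth.isSeparating_gen _ fun U K i _ g => ?_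
    have hU : IsAffineOpen (U.1.ι ''ᵁ ⊤) := by rw [Scheme.Opens.ι_image_top]; exact U.2
    haveI : IsNoetherianRing Γ(X, U.1.ι ''ᵁ ⊤) := IsLocallyNoetherian.component_noetherian ⟨_, hU⟩
    obtain ⟨j, hj⟩ := Groth.L29.LocNoeth.exists_killed (f := g) (Φ := q) (e := genSec U.1) hU
      (fun y hy m => exists_smul_germ hy m) (fun y hy => subsingleton_stalk_gen hy) hq hqx i
    haveI : Injective (D.obj j) := (hT j).2.1
    refine ⟨Injective.factorThru (Abelian.monoLift (colimit.ι D j) g hj) i ≫ colimit.ι D j, ?_⟩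
    rw [Injective.comp_factorThru_assoc]
    exact Abelian.monoLift_comp (colimit.ι D j) g hj
  refine ⟨Subobject.mk f, good_of_iso (Subobject.underlyingIso f).symm ?_ hinj ?_, fun S hS => ?_⟩
  · exact Groth.L29.DC.QCohColim.isQCoh_colimit D _ (colimit.isColimit D) fun j => (hT j).1
  · intro z hz
    refine subsingleton_of_forall_eq 0 fun l => ?_
    obtain ⟨j, v, rfl⟩ := hrep z l
    haveI : Subsingleton ((D.obj j).presheaf.stalk z) := (hT j).2.2 z hz
    rw [Subsingleton.elim v 0, map_zero]
  · obtain ⟨j, hj⟩ : ∃ j, T j = S := ⟨⟨equivShrink c ⟨S, hS⟩⟩, by simp [T]⟩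
    rw [← hj]
    exact Subobject.le_mk_of_comm (colimit.ι D j) (hf j)

theorem exists_injective_sub (Z : Set X) (hZ : ∀ a b : X, a ⤳ b → a ∈ Z → b ∈ Z) {E M : X.Modules}
    [Injective E] [Coh.IsQCoh M] (i : M ⟶ E) [Mono i] (hM : ∀ z ∉ Z, Subsingleton (M.presheaf.stalk z)) :
    ∃ (S : Subobject E) (r : E ⟶ (S : X.Modules)), Good Z S ∧ S.arrow ≫ r = 𝟙 _ ∧ Mono (i ≫ r) := by
  obtain ⟨S, -, hS⟩ := zorn_le_nonempty₀ {S : Subobject E | Good Z S}
    (fun c hc hch y hy => exists_good_ge_chain Z c hc hch ⟨y, hy⟩) ⊥ (good_bot Z E)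
  haveI : Coh.IsQCoh (S : X.Modules) := hS.1.1
  haveI : Injective (S : X.Modules) := hS.1.2.1
  let r : E ⟶ (S : X.Modules) := Injective.factorThru (𝟙 _) S.arrow
  have hr : S.arrow ≫ r = 𝟙 _ := Injective.comp_factorThru _ _
  refine ⟨S, r, hS.1, hr, ?_⟩
  by_contra hmono
  haveI : Coh.IsQCoh (kernel (i ≫ r)) := Groth.L29.DC.isQCoh_kernel' _ inferInstance inferInstance
  let C := kernel r
  let ρ : E ⟶ C := kernel.lift r (𝟙 E - r ≫ S.arrow) (by
    rw [Preadditive.sub_comp, Category.assoc, hr, Category.id_comp, Category.comp_id, sub_self])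
  have hρ : kernel.ι r ≫ ρ = 𝟙 C := by
    rw [← cancel_mono (kernel.ι r), Category.assoc, kernel.lift_ι, Preadditive.comp_sub, kernel.condition_assoc,
      zero_comp, sub_zero, Category.comp_id, Category.id_comp]
  haveI : Injective C := Retract.injective ⟨kernel.ι r, ρ, hρ⟩
  let j : kernel (i ≫ r) ⟶ C := kernel.lift r (kernel.ι (i ≫ r) ≫ i) (by rw [Category.assoc, kernel.condition])
  haveI : Mono j := mono_of_mono_fac (kernel.lift_ι r (kernel.ι (i ≫ r) ≫ i) _)
  obtain ⟨y, w, hw⟩ : ∃ (y : X) (w : (kernel (i ≫ r)).presheaf.stalk y), w ≠ 0 := by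
    by_contra h
    push Not at h
    exact hmono (Preadditive.mono_of_isZero_kernel _
      ((Groth.L21.Mod.isZero_iff_stalk_subsingleton _).2 fun y => subsingleton_of_forall_eq 0 (h y)))
  obtain ⟨P, ψ, x, hψ, hPq, hPi, hP0, hNx, hPz⟩ := exists_sky_mono j hw
  have hxZ : x ∈ Z := by
    by_contra h
    haveI := hM x h
    haveI : Subsingleton ((kernel (i ≫ r)).presheaf.stalk x) := (st_injective (kernel.ι (i ≫ r)) x).subsingleton
    exact not_subsingleton ((kernel (i ≫ r)).presheaf.stalk x) inferInstance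
  let d : (S : X.Modules) ⊞ P ⟶ E := biprod.desc S.arrow (ψ ≫ kernel.ι r)
  haveI : Mono d := Preadditive.mono_of_cancel_zero d fun {T} g hg => by
    have h1 : g ≫ biprod.fst = 0 := by
      have h := congrArg (fun t => t ≫ r) hg
      have hdr : d ≫ r = biprod.fst := biprod.hom_ext' _ _ (by simp [d, hr]) (by simp [d])
      simpa [hdr] using h
    refine biprod.hom_ext _ _ (by simpa using h1) ?_
    rw [zero_comp, ← cancel_mono (ψ ≫ kernel.ι r), zero_comp]
    rw [show d = biprod.fst ≫ S.arrow + biprod.snd ≫ ψ ≫ kernel.ι r from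
      biprod.hom_ext' _ _ (by simp [d]) (by simp [d]), Preadditive.comp_add, ← Category.assoc, h1, zero_comp,
      zero_add] at hg
    simpa using hg
  have hgood : Good Z (Subobject.mk d) := by
    refine good_of_iso (Subobject.underlyingIso d).symm (Groth.L17.HTorRG.Acyc.isQCoh_biprod inferInstance hPq)
      inferInstance fun z hz => ?_
    haveI := hS.1.2.2 z hz
    haveI := hPz z (fun h => hz (hZ x z h hxZ))
    refine subsingleton_of_forall_eq 0 fun w => ?_
    have h := congr(st $(biprod.total (X := (S : X.Modules)) (Y := P)) z w)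
    have hadd : st (biprod.fst ≫ biprod.inl + biprod.snd ≫ biprod.inr : (S : X.Modules) ⊞ P ⟶ _) z w =
        st (biprod.fst ≫ biprod.inl) z w + st (biprod.snd ≫ biprod.inr) z w :=
      congr(($((DerSch.stalkFunctor X z).map_add)).hom w)
    have hid : st (𝟙 ((S : X.Modules) ⊞ P)) z w = w :=
      congr(($((DerSch.stalkFunctor X z).map_id ((S : X.Modules) ⊞ P))).hom w)
    rw [hadd, hid, st_comp, st_comp, Subsingleton.elim (st biprod.fst z w) 0,
      Subsingleton.elim (st biprod.snd z w) 0, map_zero, map_zero, add_zero] at h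
    exact h.symm
  have hle : S ≤ Subobject.mk d := Subobject.le_mk_of_comm biprod.inl (biprod.inl_desc _ _)
  have hge := hS.2 hgood hle
  apply hP0
  rw [IsZero.iff_id_eq_zero, ← cancel_mono (ψ ≫ kernel.ι r), zero_comp, Category.id_comp]
  have h1 : (biprod.inr ≫ d) ≫ r = 0 := by simp [d]
  have h2 : biprod.inr ≫ d = (biprod.inr ≫ Subobject.ofMkLE d S hge) ≫ S.arrow := by
    rw [Category.assoc, Subobject.ofMkLE_arrow]
  rw [h2, Category.assoc, hr, Category.comp_id] at h1
  rw [h1, zero_comp] at h2
  simpa [d] using h2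

/-- On a locally Noetherian scheme quasi-coherent modules embed in quasi-coherent injective modules. -/
theorem exists_mono_injective (M : X.Modules) [Coh.IsQCoh M] :
    ∃ (T : X.Modules) (φ : M ⟶ T), Mono φ ∧ Coh.IsQCoh T ∧ Injective T := by
  obtain ⟨S, r, hS, -, h⟩ := exists_injective_sub (Set.univ : Set X) (fun _ _ _ h => h) (Injective.ι M)
    (fun z hz => absurd trivial hz)
  exact ⟨_, _, h, hS.1, hS.2.1⟩

/-- Objects injective among quasi-coherent modules are injective among all modules. -/
theorem injective_obj (J : ObjectProperty.FullSubcategory (fun M : X.Modules => Coh.IsQCoh M)) (hJ : Injective J) :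
    Injective J.obj := by
  haveI : Coh.IsQCoh J.obj := J.property
  obtain ⟨T, φ, hφ, hT, hTi⟩ := exists_mono_injective J.obj
  let φ' : J ⟶ ⟨T, hT⟩ := ObjectProperty.homMk φ
  haveI : Mono φ' := (ObjectProperty.ι (fun M : X.Modules => Coh.IsQCoh M)).mono_of_mono_map (f := φ') hφ
  haveI := hTi
  exact Retract.injective ⟨φ, (Injective.factorThru (𝟙 J) φ').hom,
    congrArg (fun k => k.hom) (Injective.comp_factorThru (𝟙 J) φ')⟩

/-- A quasi-coherent submodule of an injective module, containing every quasi-coherent submodule with support in the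
same specialization-closed set, is injective. -/
theorem injective_of_maximal (Z : Set X) (hZ : ∀ a b : X, a ⤳ b → a ∈ Z → b ∈ Z) {E K : X.Modules}
    [Injective E] [Coh.IsQCoh K] (k : K ⟶ E) [Mono k] (hK : ∀ z ∉ Z, Subsingleton (K.presheaf.stalk z))
    (hmax : ∀ (S : X.Modules) (s : S ⟶ E), (∀ z ∉ Z, Subsingleton (S.presheaf.stalk z)) → ∃ g, g ≫ k = s) :
    Injective K := by
  obtain ⟨S, r, hS, hr, hmono⟩ := exists_injective_sub Z hZ k hK
  obtain ⟨g, hg⟩ := hmax _ S.arrow hS.2.2
  haveI : Injective (S : X.Modules) := hS.2.1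
  refine Retract.injective ⟨k ≫ r, g, ?_⟩
  rw [← cancel_mono (k ≫ r), Category.assoc, ← Category.assoc g k r, hg, hr, Category.comp_id, Category.id_comp]

end Groth.L29.InjSub
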