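import Groth.Agent.L00.Skyscraper
import Groth.Agent.L19.FPExtend.Sheaf
import Groth.Agent.L04.InjLocal
import Groth.Agent.L04.InjNoeth
import Mathlib.Algebra.Category.ModuleCat.Injective
import Mathlib.RingTheory.Localization.AtPrime.Basic

/-!
Modules concentrated at a point are skyscrapers; tilde of an injective hull of a prime is an injective module.
-/

set_option autoImplicit false
set_option backward.isDefEq.respectTransparency false
set_option backward.isDefEq.respectTransparency.types false
set_option linter.style.haveILetI false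

universe u

open CategoryTheory CategoryTheory.Limits AlgebraicGeometry TopologicalSpace Opposite

namespace Groth.L29.SkyInj

open Groth.L18.Frame (rs)

variable {X : Scheme.{u}}

theorem nonempty_iso_sky (M : X.Modules) (x : X) (B : Set X.Opens) (hB : Opens.IsBasis B)
    (h1 : ∀ D ∈ B, ∀ hx : x ∈ D, Function.Bijective (M.presheaf.germ D x hx))
    (h2 : ∀ D ∈ B, x ∉ D → Subsingleton Γ(M, D)) :
    Nonempty (M ≅ Groth.L00.Sky.sky x ((Groth.L00.Stk.F X x).obj M)) := by
  let θ := Groth.L00.Sky.toHom M _ (𝟙 ((Groth.L00.Stk.F X x).obj M))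
  have hθ : ∀ D ∈ B, Function.Bijective (θ.app D) := by
    intro D hD
    by_cases hx : x ∈ D
    · refine ⟨fun a b hab => (h1 D hD hx).1 (congrFun hab ⟨hx⟩), fun s => ?_⟩
      obtain ⟨a, ha⟩ := (h1 D hD hx).2 (s ⟨hx⟩)
      exact ⟨a, funext fun ⟨_⟩ => ha⟩
    · haveI := h2 D hD hx
      exact ⟨fun a b _ => Subsingleton.elim _ _, fun s => ⟨0, funext fun h => absurd h.down hx⟩⟩
  haveI : IsIso θ := (Groth.L21.Mod.isIso_iff_stalk_bijective θ).2 fun y =>
    Groth.L19.FPExtend.bijective_stalk_of_basis θ hB (O := ⊤) (fun D hD _ => hθ D hD) trivial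
  exact ⟨asIso θ⟩

/-- A module concentrated at `x` with injective stalk is injective. -/
theorem injective_of_sky (M : X.Modules) (x : X) (B : Set X.Opens) (hB : Opens.IsBasis B)
    (h1 : ∀ D ∈ B, ∀ hx : x ∈ D, Function.Bijective (M.presheaf.germ D x hx))
    (h2 : ∀ D ∈ B, x ∉ D → Subsingleton Γ(M, D))
    (h : Module.Injective (X.presheaf.stalk x) (M.presheaf.stalk x)) : Injective M := by
  obtain ⟨e⟩ := nonempty_iso_sky M x B hB h1 h2
  haveI : Injective ((Groth.L00.Stk.F X x).obj M) :=
    (Module.injective_iff_injective_object (X.presheaf.stalk x) (M.presheaf.stalk x)).1 h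
  haveI : (Groth.L00.Stk.F X x).PreservesMonomorphisms := inferInstance
  exact Injective.of_iso e.symm ((Groth.L00.Sky.adj x).map_injective ((Groth.L00.Stk.F X x).obj M) inferInstance)

theorem injective_of_semilinear {R S : Type u} [CommRing R] [CommRing S] (φ : R →+* S) (P : Submonoid R)
    (hu : ∀ t ∈ P, IsUnit (φ t)) (hs : ∀ s : S, ∃ t ∈ P, ∃ r : R, φ t * s = φ r)
    {E N : Type u} [AddCommGroup E] [Module R E] [AddCommGroup N] [Module S N] (ψ : E → N)
    (hψ : Function.Bijective ψ) (hadd : ∀ a b, ψ (a + b) = ψ a + ψ b)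
    (hsmul : ∀ (r : R) (a : E), ψ (r • a) = φ r • ψ a) (hE : Module.Injective R E) : Module.Injective S N := by
  refine Module.Baer.injective fun I g => ?_
  let ψe : E ≃+ N := AddEquiv.ofBijective (AddMonoidHom.mk' ψ hadd) hψ
  let J : Ideal R := I.comap φ
  let h : J →ₗ[R] E :=
    { toFun := fun j => ψe.symm (g ⟨φ j.1, j.2⟩)
      map_add' := fun a b => by
        rw [← map_add, ← map_add]
        exact congrArg (fun z => ψe.symm (g z)) (Subtype.ext (map_add φ a.1 b.1))
      map_smul' := fun r a => by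
        apply ψe.injective
        rw [AddEquiv.apply_symm_apply, RingHom.id_apply]
        refine Eq.trans ?_ ((hsmul r _).trans (congrArg (φ r • ·) (ψe.apply_symm_apply _))).symm
        rw [← map_smul]
        exact congrArg g (Subtype.ext (map_mul φ r a.1)) }
  obtain ⟨h', hh'⟩ := hE.out J.subtype J.injective_subtype h
  refine ⟨LinearMap.toSpanSingleton S N (ψ (h' 1)), fun s hs' => ?_⟩
  obtain ⟨t, ht, r, hr⟩ := hs s
  have hrI : φ r ∈ I := hr ▸ I.mul_mem_left _ hs'
  apply (hu t ht).smul_left_cancel.1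
  rw [LinearMap.toSpanSingleton_apply, smul_smul, hr, ← hsmul, ← map_smul h', smul_eq_mul, mul_one]
  refine (congrArg ψ (hh' ⟨r, hrI⟩)).trans ?_
  change ψe (ψe.symm (g ⟨φ r, hrI⟩)) = _
  rw [AddEquiv.apply_symm_apply, ← map_smul]
  exact congrArg g (Subtype.ext hr.symm)

theorem bijective_of_units {R : Type u} [CommRing R] (P : Submonoid R) {E N : Type u} [AddCommGroup E] [Module R E]
    [AddCommGroup N] [Module R N] (g : E →ₗ[R] N) [IsLocalizedModule P g]
    (hs : ∀ s ∈ P, Function.Bijective fun e : E => s • e) : Function.Bijective g := by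
  refine ⟨fun a b hab => ?_, fun y => ?_⟩
  · obtain ⟨c, hc⟩ := IsLocalizedModule.exists_of_eq (S := P) (f := g) hab
    exact (hs c.1 c.2).1 hc
  · obtain ⟨⟨e, t⟩, he⟩ := IsLocalizedModule.surj P g y
    obtain ⟨e', rfl⟩ := (hs t.1 t.2).2 e
    refine ⟨e', ((Module.End.isUnit_iff _).1 (IsLocalizedModule.map_units g t)).1 ?_⟩
    rw [Module.algebraMap_end_apply, Module.algebraMap_end_apply, ← map_smul]
    exact he.symm

section Affine

variable {R : CommRingCat.{u}} (p : PrimeSpectrum.Top R) (E : ModuleCat.{u} R)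

/-- the map of a module into a stalk of its tilde, as germ of constant sections -/
theorem toOpen_germ (U : (Spec R).Opens) (hp : p ∈ U) (e : E) :
    (tilde E).presheaf.germ U p hp ((tilde.toOpen E U).hom e) = (tilde.toStalk E p).hom e :=
  (congrArg ((tilde E).presheaf.germ U p hp)
    (ConcreteCategory.congr_hom (tilde.toOpen_res E ⊤ U (homOfLE (le_top : U ≤ ⊤))) e).symm).trans
      (TopCat.Presheaf.germ_res_apply (tilde E).presheaf (homOfLE (le_top : U ≤ ⊤)) p hp _ :)

theorem toStalk_smul (r : R) (e : E) :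
    (tilde.toStalk E p).hom (r • e) =
      (Spec R).presheaf.germ ⊤ p trivial (algebraMap R Γ(Spec R, ⊤) r) • (tilde.toStalk E p).hom e := by
  rw [← toOpen_germ p E ⊤ trivial, ← toOpen_germ p E ⊤ trivial, map_smul]
  refine Eq.trans (congrArg _ ?_) (Groth.L20.ModStalk.germ_smul (tilde E) (U := ⊤) trivial _ _)
  exact (IsScalarTower.algebraMap_smul Γ(Spec R, ⊤) r (show Γ(tilde E, ⊤) from (tilde.toOpen E ⊤).hom e)).symm

theorem subsingleton_basicOpen (f : R) (ht : ∀ e : E, ∃ n : ℕ, f ^ n • e = 0) :
    Subsingleton Γ(tilde E, PrimeSpectrum.basicOpen f) := by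
  refine subsingleton_of_forall_eq 0 fun y => ?_
  obtain ⟨⟨e, s⟩, he⟩ := IsLocalizedModule.surj (.powers f) (tilde.toOpen E (PrimeSpectrum.basicOpen f)).hom y
  obtain ⟨n, hn⟩ := ht e
  have h0 : (tilde.toOpen E (PrimeSpectrum.basicOpen f)).hom e = 0 := by
    apply ((Module.End.isUnit_iff _).1 (IsLocalizedModule.map_units
      (tilde.toOpen E (PrimeSpectrum.basicOpen f)).hom (⟨f ^ n, n, rfl⟩ : Submonoid.powers f))).1
    rw [map_zero, Module.algebraMap_end_apply, ← map_smul]
    exact (congrArg _ hn).trans (map_zero _)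
  apply ((Module.End.isUnit_iff _).1 (IsLocalizedModule.map_units
    (tilde.toOpen E (PrimeSpectrum.basicOpen f)).hom s)).1
  rw [map_zero, Module.algebraMap_end_apply]
  exact he.trans h0

theorem injective_tilde (hs : ∀ s ∉ p.asIdeal, Function.Bijective fun e : E => s • e)
    (ht : ∀ a ∈ p.asIdeal, ∀ e : E, ∃ n : ℕ, a ^ n • e = 0) (hE : Module.Injective R E) :
    Injective (tilde E) := by
  have hstalk : Function.Bijective (tilde.toStalk E p).hom :=
    bijective_of_units p.asIdeal.primeCompl _ hs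
  refine injective_of_sky (tilde E) p _ PrimeSpectrum.isBasis_basic_opens ?_ ?_ ?_
  · rintro _ ⟨f, rfl⟩ hp
    have hD : Function.Bijective (tilde.toOpen E (PrimeSpectrum.basicOpen f)).hom :=
      bijective_of_units (.powers f) _ fun s hs' => hs s (by
        obtain ⟨n, rfl⟩ := hs'
        exact fun h => hp (Ideal.IsPrime.mem_of_pow_mem inferInstance n h))
    have := hstalk
    rw [show ((tilde.toStalk E p).hom : E → _) = (tilde E).presheaf.germ (PrimeSpectrum.basicOpen f) p hp ∘
      (tilde.toOpen E (PrimeSpectrum.basicOpen f)).hom from funext fun e => (toOpen_germ p E _ hp e).symm] at this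
    exact (Function.Bijective.of_comp_iff _ hD).1 this
  · rintro _ ⟨f, rfl⟩ hp
    exact subsingleton_basicOpen E f (ht f (by_contra fun h => hp h))
  · refine injective_of_semilinear
      (((Spec R).presheaf.germ ⊤ p trivial).hom.comp (algebraMap R Γ(Spec R, ⊤))) p.asIdeal.primeCompl
      ?_ ?_ (tilde.toStalk E p).hom hstalk (map_add _) (fun r a => toStalk_smul p E r a) hE
    · intro t ht
      exact IsLocalization.map_units ((AlgebraicGeometry.Spec.structureSheaf R).presheaf.stalk p)
        (⟨t, ht⟩ : p.asIdeal.primeCompl)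
    · intro s
      obtain ⟨⟨r, t⟩, hrt⟩ := IsLocalization.surj (M := p.asIdeal.primeCompl)
        (show (AlgebraicGeometry.Spec.structureSheaf R).presheaf.stalk p from s)
      exact ⟨t.1, t.2, r, (mul_comm _ _).trans hrt⟩

end Affine

end Groth.L29.SkyInj
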