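import Groth.Agent.L29.Sib.InjSum
import Groth.Agent.L29.Sib.SkyInj
import Groth.Agent.L16.QcqsPush
import Groth.Agent.L00.AlgQCoh
import Groth.Agent.L00.LocalData
import Groth.Agent.L21.Mod.Locality
import Groth.Agent.L29.DCoh.QCohOps
import Groth.Agent.L29.DCoh.QCohLocal
import Mathlib.Algebra.Category.ModuleCat.EnoughInjectives
import Mathlib.Algebra.Category.ModuleCat.Products

/-!
Tilde of an injective module over a Noetherian ring is injective among all modules; on a Noetherian scheme
quasi-coherent modules embed in quasi-coherent injective modules.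
-/

set_option autoImplicit false
set_option backward.isDefEq.respectTransparency false
set_option linter.style.haveILetI false

universe u

open CategoryTheory CategoryTheory.Limits AlgebraicGeometry TopologicalSpace Opposite

namespace Groth.L29.QCohInj

/-- Tilde of an injective module over a Noetherian ring is an injective module sheaf. -/
theorem injective_tilde {R : CommRingCat.{u}} [IsNoetherianRing R] (I : ModuleCat.{u} R)
    (hI : Module.Injective R I) : Injective (tilde I) := by
  classical
  obtain ⟨S, hS, hSi⟩ := Groth.L04.exists_isInternal_indecomposable hI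
  let Z : S → ModuleCat.{u} R := fun x => ModuleCat.of R (x : Submodule R I)
  let e : ∐ Z ≅ I := ModuleCat.coprodIsoDirectSum Z ≪≫ (LinearEquiv.ofBijective (DirectSum.coeLinearMap fun x : S => (x : Submodule R I)) hS).toModuleIso
  have hZ : ∀ x, Injective ((tilde.functor R).obj (Z x)) := by
    intro x
    obtain ⟨hind, hinj⟩ := hSi x.1 x.2
    haveI := hind.1
    obtain ⟨p, hp, f, hf⟩ := Groth.L04.exists_quotient_prime_embedding (R := R) (E := (x : Submodule R I))
    have hh : InjHull.IsInjectiveHull f := ⟨Groth.L04.isEssentialInj_of_indecomposable hind hinj hf, hinj⟩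
    refine Groth.L29.SkyInj.injective_tilde (⟨p, hp⟩ : PrimeSpectrum.Top R) (Z x)
      (fun s hs => Groth.L04.smul_bijective_of_isInjectiveHull_quotient p hh hs) (fun a ha e => ?_) hinj
    obtain ⟨n, hn⟩ := Groth.L04.mem_torsion_of_isInjectiveHull hh (Groth.L04.isPowerTorsion_quotient_self p) e
    exact ⟨n, hn _ (Ideal.pow_mem_pow ha n)⟩
  haveI := Groth.L29.LocNoeth.injective_coproduct (fun x => (tilde.functor R).obj (Z x)) hZ
  exact Injective.of_iso ((PreservesCoproduct.iso (tilde.functor R) Z).symm ≪≫ (tilde.functor R).mapIso e) inferInstance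

/-- Quasi-coherent modules on a Noetherian affine scheme embed in tilde of injective modules. -/
theorem exists_mono_tilde {X : Scheme.{u}} {R : CommRingCat.{u}} [IsNoetherianRing R] (j : Spec R ⟶ X)
    [IsOpenImmersion j] (M : X.Modules) [Coh.IsQCoh M] :
    ∃ (I : ModuleCat.{u} R) (φ : M.restrict j ⟶ tilde I), Mono φ ∧ Injective (tilde I) := by
  obtain ⟨N, ⟨e⟩⟩ := Groth.L00.Local.exists_tilde_iso_restrict j M
  haveI : (tilde.functor R).PreservesMonomorphisms := inferInstance
  refine ⟨Injective.under N, e.hom ≫ (tilde.functor R).map (Injective.ι N), inferInstance, ?_⟩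
  exact injective_tilde _ ((Module.injective_iff_injective_object R _).2 (Injective.injective_under N))

theorem isQCoh_of_finite_biproduct {X : Scheme.{u}} {ι : Type u} [Finite ι] (F : ι → X.Modules)
    (hF : ∀ i, Coh.IsQCoh (F i)) : Coh.IsQCoh (⨁ F) :=
  Groth.L29.DC.isQCoh_of_iso' (biproduct.isoCoproduct F).symm (Groth.L00.AlgQCoh.isQCoh_sigma F hF)

/-- On a Noetherian scheme quasi-coherent modules embed in quasi-coherent injective modules. -/
theorem exists_mono_injective {X : Scheme.{u}} [IsNoetherian X] (M : X.Modules) [Coh.IsQCoh M] :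
    ∃ (T : X.Modules) (φ : M ⟶ T), Mono φ ∧ Coh.IsQCoh T ∧ Injective T := by
  classical
  have hloc : ∀ x : X, ∃ (R : CommRingCat.{u}) (j : Spec R ⟶ X) (_ : IsOpenImmersion j), IsNoetherianRing R ∧
      x ∈ j.opensRange := by
    intro x
    obtain ⟨_, ⟨U, hU, rfl⟩, hxU, -⟩ :=
      X.isBasis_affineOpens.exists_subset_of_mem_open (Set.mem_univ x) isOpen_univ
    exact ⟨_, hU.fromSpec, inferInstance, IsLocallyNoetherian.component_noetherian ⟨U, hU⟩,
      hU.opensRange_fromSpec.ge hxU⟩
  choose R j hj hR hx using hloc
  obtain ⟨t, ht⟩ := isCompact_univ.elim_finite_subcover (fun x : X => ((j x).opensRange : Set X))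
    (fun x => (j x).opensRange.2) (fun x _ => Set.mem_iUnion.2 ⟨x, hx x⟩)
  let v : {x // x ∈ t} → X := fun i => i.1
  choose I φ hφ hI using fun x : X => (haveI := hj x; haveI := hR x; exists_mono_tilde (j x) M)
  let T : {x // x ∈ t} → X.Modules := fun i => (Scheme.Modules.pushforward (j (v i))).obj (tilde (I (v i)))
  let m : ∀ i, M ⟶ T i := fun i => haveI := hj (v i)
    (Scheme.Modules.restrictAdjunction (j (v i))).homEquiv M (tilde (I (v i))) (φ (v i))
  have hT : ∀ i, Injective (T i) := fun i => by
    haveI := hj (v i)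
    haveI : (Scheme.Modules.restrictFunctor (j (v i))).PreservesMonomorphisms := inferInstance
    exact (Scheme.Modules.restrictAdjunction (j (v i))).map_injective (tilde (I (v i))) (hI (v i))
  have hTq : ∀ i, Coh.IsQCoh (T i) := fun i => by
    haveI := hj (v i)
    haveI : QuasiCompact (j (v i)) := quasiCompact_of_compactSpace _
    exact Groth.L16.QcqsPush.isQCoh_push (tilde (I (v i))) (j (v i))
  refine ⟨⨁ T, biproduct.lift m, ?_, isQCoh_of_finite_biproduct T hTq, inferInstance⟩
  refine Groth.L21.Mod.mono_of_restrict (fun i : {x // x ∈ t} => j (v i)) (fun x => ?_) _ fun i => ?_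
  · obtain ⟨y, hy, hxy⟩ := Set.mem_iUnion₂.1 (ht (Set.mem_univ x))
    obtain ⟨z, hz⟩ := hxy
    exact ⟨⟨y, hy⟩, z, hz⟩
  · haveI := hj (v i)
    have h : (Scheme.Modules.restrictFunctor (j (v i))).map (biproduct.lift m ≫ biproduct.π T i) ≫
        (Scheme.Modules.restrictAdjunction (j (v i))).counit.app (tilde (I (v i))) = φ (v i) := by
      rw [biproduct.lift_π]
      exact ((Scheme.Modules.restrictAdjunction (j (v i))).homEquiv_counit _ _ (m i)).symm.trans (Equiv.symm_apply_apply _ _)
    haveI := hφ (v i)
    rw [Functor.map_comp, Category.assoc] at h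
    exact mono_of_mono_fac h

/-- A split monomorphism into a quasi-coherent injective module: quasi-coherent objects injective among
quasi-coherent ones are injective among all modules on a Noetherian scheme. -/
theorem injective_obj {X : Scheme.{u}} [IsNoetherian X]
    (J : ObjectProperty.FullSubcategory (fun M : X.Modules => Coh.IsQCoh M)) (hJ : Injective J) :
    Injective J.obj := by
  haveI : Coh.IsQCoh J.obj := J.property
  obtain ⟨T, φ, hφ, hT, hTi⟩ := exists_mono_injective J.obj
  let φ' : J ⟶ ⟨T, hT⟩ := ObjectProperty.homMk φ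
  haveI : Mono φ' := (ObjectProperty.ι (fun M : X.Modules => Coh.IsQCoh M)).mono_of_mono_map (f := φ') hφ
  haveI := hTi
  exact Retract.injective ⟨φ, (Injective.factorThru (𝟙 J) φ').hom,
    congrArg (fun k => k.hom) (Injective.comp_factorThru (𝟙 J) φ')⟩

end Groth.L29.QCohInj
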