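import Groth.Agent.L29.Sib.Eff
import Mathlib.CategoryTheory.Triangulated.Functor

/-!
Two exact functors on the bounded derived category agreeing on the abelian category agree on objects,
as soon as negative Homs between their values on single objects vanish.
-/

set_option autoImplicit false
set_option backward.defeqAttrib.useBackward true
set_option backward.isDefEq.respectTransparency false
set_option backward.isDefEq.respectTransparency.types false

universe w v u v' u'

open CategoryTheory CategoryTheory.Limits CategoryTheory.Pretriangulated DerivedCategory.TStructure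

namespace Groth.L29.Sib

variable {A : Type u} [Category.{v} A] [Abelian A] [HasDerivedCategory.{w} A]

local notation "Db" => DerivedCategory.Bounded A

theorem amp_of_isZero {K : Db} (h : IsZero K) (b a : ℤ) : Amp K b a :=
  ⟨(DerivedCategory.isGE_iff _ _).2 fun _ _ => Functor.map_isZero _ (ι'.map_isZero h),
    (DerivedCategory.isLE_iff _ _).2 fun _ _ => Functor.map_isZero _ (ι'.map_isZero h)⟩

/-- hitting the top degree, also in amplitude zero -/
theorem exists_eff' {K : Db} {b c : ℤ} (hK : Amp K b c) (hbc : b ≤ c) :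
    ∃ (X : A) (i : (sg A c).obj X ⟶ K), Eff b c i := by
  rcases hbc.lt_or_eq with h | h
  · exact exists_eff hK h
  · subst h
    obtain ⟨X, ⟨e⟩⟩ := exists_sg hK
    obtain ⟨C, p, δ, hT⟩ := distinguished_cocone_triangle e.inv
    exact ⟨X, e.inv, C, p, δ, hT, amp_of_isZero ((Triangle.isZero₃_iff_isIso₁ _ hT).2 (inferInstanceAs (IsIso e.inv))) _ _⟩

variable {D : Type u'} [Category.{v'} D] [Preadditive D] [HasZeroObject D] [HasShift D ℤ]
  [∀ n : ℤ, (shiftFunctor D n).Additive] [Pretriangulated D]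
  {F F' : DerivedCategory.Bounded A ⥤ D}

/-- a morphism commutes with two identifications -/
def Comm {K L : Db} (u : F.obj K ≅ F'.obj K) (v : F.obj L ≅ F'.obj L) (f : K ⟶ L) : Prop :=
  F.map f ≫ v.hom = u.hom ≫ F'.map f

theorem Comm.comp {K L M : Db} {u : F.obj K ≅ F'.obj K} {v : F.obj L ≅ F'.obj L} {x : F.obj M ≅ F'.obj M}
    {f : K ⟶ L} {g : L ⟶ M} (hf : Comm u v f) (hg : Comm v x g) : Comm u x (f ≫ g) := by
  rw [Comm, F.map_comp, F'.map_comp, Category.assoc, hg, ← Category.assoc, hf, Category.assoc]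

theorem Comm.inv {K L : Db} {u : F.obj K ≅ F'.obj K} {v : F.obj L ≅ F'.obj L} {e : K ≅ L} (h : Comm u v e.hom) :
    Comm v u e.inv := by
  rw [Comm, ← cancel_epi (F.map e.hom), ← Category.assoc, ← F.map_comp, Iso.hom_inv_id, F.map_id,
    Category.id_comp, ← Category.assoc, h, Category.assoc, ← F'.map_comp, Iso.hom_inv_id, F'.map_id, Category.comp_id]

variable [F.CommShift ℤ] [F'.CommShift ℤ]

/-- shifting an identification -/
noncomputable def sh (k : ℤ) {K : Db} (u : F.obj K ≅ F'.obj K) : F.obj (K⟦k⟧) ≅ F'.obj (K⟦k⟧) :=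
  (F.commShiftIso k).app K ≪≫ (shiftFunctor D k).mapIso u ≪≫ ((F'.commShiftIso k).app K).symm

theorem Comm.shift {K L : Db} {u : F.obj K ≅ F'.obj K} {v : F.obj L ≅ F'.obj L} {f : K ⟶ L} (h : Comm u v f) (k : ℤ) :
    Comm (sh k u) (sh k v) (f⟦k⟧') := by
  have n1 := (F.commShiftIso k).hom.naturality f
  have n2 := (F'.commShiftIso k).inv.naturality f
  dsimp [Comm, sh] at n1 n2 h ⊢
  rw [reassoc_of% n1, ← Functor.map_comp_assoc, h, Functor.map_comp_assoc, n2]
  simp only [Category.assoc]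

theorem comm_shiftAdd {K : Db} (u : F.obj K ≅ F'.obj K) (a b c : ℤ) (h : a + b = c) :
    Comm (sh c u) (sh b (sh a u)) ((shiftFunctorAdd' Db a b c h).hom.app K) := by
  have n := (shiftFunctorAdd' D a b c h).hom.naturality u.hom
  have e1 := congrArg (fun t => Iso.hom t) (F.commShiftIso_add' h)
  have e2 := congrArg (fun t => Iso.hom t) (F'.commShiftIso_add' h)
  have e1' := NatTrans.congr_app e1 K
  have e2' := NatTrans.congr_app e2 K
  simp only [Functor.CommShift.isoAdd'_hom_app] at e1' e2'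
  dsimp [Comm, sh] at n ⊢
  rw [← cancel_mono (((F'.commShiftIso b).hom.app (K⟦a⟧)) ≫ ((F'.commShiftIso a).hom.app K)⟦b⟧' ≫
    (shiftFunctorAdd' D a b c h).inv.app (F'.obj K)), e1']
  simp only [Category.assoc, Functor.map_comp, Iso.inv_hom_id_app_assoc]
  erw [← e2', Iso.inv_hom_id_app]
  rw [← Functor.map_comp_assoc _ _ ((F'.commShiftIso a).hom.app K), Iso.inv_hom_id_app]
  simp
  rw [← cancel_mono ((shiftFunctorAdd' D a b c h).hom.app (F'.obj K))]
  simp [n]

variable (η : DEquiv.singleB A ⋙ F ≅ DEquiv.singleB A ⋙ F')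

/-- the identification in degree `n` -/
noncomputable def ε (n : ℤ) (X : A) : F.obj ((sg A n).obj X) ≅ F'.obj ((sg A n).obj X) :=
  sh (-n) (η.app X)

theorem comm_sg {n : ℤ} {X Y : A} (f : (sg A n).obj X ⟶ (sg A n).obj Y) : Comm (ε η n X) (ε η n Y) f := by
  obtain ⟨g, rfl⟩ := (sg A n).map_surjective f
  exact Comm.shift (show Comm (η.app X) (η.app Y) ((DEquiv.singleB A).map g) from η.hom.naturality g) (-n)

/-- the shift of a single object -/
noncomputable def κ (n m : ℤ) (h : m + 1 = n) (X : A) : (sg A m).obj X ≅ ((sg A n).obj X)⟦(1 : ℤ)⟧ :=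
  (shiftFunctorAdd' Db (-n) 1 (-m) (by omega)).app _

theorem comm_κ (n m : ℤ) (h : m + 1 = n) (X : A) :
    Comm (ε η m X) (sh 1 (ε η n X)) (κ n m h X).hom :=
  comm_shiftAdd (η.app X) (-n) 1 (-m) (by omega)

theorem comm_sg_shift {n m : ℤ} (h : m + 1 = n) {X Y : A} (f : (sg A m).obj X ⟶ ((sg A n).obj Y)⟦(1 : ℤ)⟧) :
    Comm (ε η m X) (sh 1 (ε η n Y)) f := by
  have e : f = (f ≫ (κ n m h Y).inv) ≫ (κ n m h Y).hom := by simp
  rw [e]
  exact Comm.comp (comm_sg η _) (comm_κ η n m h Y)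

variable (F F') in
/-- negative Homs between single objects vanish -/
def Van : Prop :=
  ∀ (X Y : A) (i j : ℤ), i < j → ∀ f : F.obj ((sg A i).obj X) ⟶ F'.obj ((sg A j).obj Y), f = 0

theorem Van.of_neg (η : DEquiv.singleB A ⋙ F ≅ DEquiv.singleB A ⋙ F')
    (h2 : ∀ (X Y : A) (q : ℤ), q < 0 →
      ∀ f : F.obj ((DEquiv.singleB A).obj X) ⟶ (shiftFunctor D q).obj (F.obj ((DEquiv.singleB A).obj Y)), f = 0) :
    Van F F' := by
  intro X Y i j h f
  let a := (F.commShiftIso (-i)).app ((DEquiv.singleB A).obj X)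
  let b := (F.commShiftIso (-j)).app ((DEquiv.singleB A).obj Y) ≪≫
    (shiftFunctorAdd' D (i - j) (-i) (-j) (by omega)).app _
  obtain ⟨g, hg⟩ := (shiftFunctor D (-i)).map_surjective (a.inv ≫ (f ≫ (ε η j Y).inv) ≫ b.hom)
  rw [h2 X Y (i - j) (by omega) g, Functor.map_zero] at hg
  rw [← cancel_mono (ε η j Y).inv, zero_comp, ← cancel_epi a.inv, comp_zero, ← cancel_mono b.hom, zero_comp,
    Category.assoc]
  exact hg.symm

variable [F.IsTriangulated] [F'.IsTriangulated]

theorem Van.of_full [F.Full] [F.Faithful] (η : DEquiv.singleB A ⋙ F ≅ DEquiv.singleB A ⋙ F') : Van F F' := by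
  intro X Y i j h f
  obtain ⟨g, hg⟩ := F.map_surjective (f ≫ (ε η j Y).inv)
  rw [← cancel_mono (ε η j Y).inv, ← hg, hom_zero (amp_sg i X) (amp_sg j Y) h g, zero_comp]
  exact F.map_zero _ _


/-- vanishing on objects of smaller amplitude -/
theorem Van.zero (hv : Van F F') {K : Db} {b a c : ℤ} (hK : Amp K b a) (hc : a < c) {Y : A}
    (f : F.obj K ⟶ F'.obj ((sg A c).obj Y)) : f = 0 := by
  obtain ⟨n, hn⟩ : ∃ n : ℕ, a < b + n := ⟨(a - b + 1).toNat, by omega⟩
  induction n generalizing K a with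
  | zero => exact (F.map_isZero (hK.isZero (by simpa using hn))).eq_of_src _ _
  | succ n ih =>
    by_cases hab : a < b
    · exact (F.map_isZero (hK.isZero hab)).eq_of_src _ _
    · obtain ⟨X, i, C, p, δ, hT, hC⟩ := exists_eff' hK (by omega)
      obtain ⟨g, hg⟩ := Triangle.yoneda_exact₂ _ (F.map_distinguished _ hT) f (hv X Y a c hc _)
      rw [hg, ih hC (by omega) g (by push_cast at hn; omega), comp_zero]

/-- identification on the middle of a triangle -/
theorem exists_middle {K C : Db} {b : ℤ} {c : ℤ} {X : A} {i : (sg A c).obj X ⟶ K} {p : K ⟶ C}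
    {δ : C ⟶ ((sg A c).obj X)⟦(1 : ℤ)⟧} (hT : Triangle.mk i p δ ∈ distTriang Db) (_hC : Amp C b (c - 1))
    (v : F.obj C ≅ F'.obj C) (hδ : Comm v (sh 1 (ε η c X)) δ) :
    ∃ φ : F.obj K ≅ F'.obj K, Comm (ε η c X) φ i ∧ Comm φ v p := by
  have hδ' : (F.mapTriangle.obj (Triangle.mk i p δ)).mor₃ ≫ (ε η c X).hom⟦(1 : ℤ)⟧' =
      v.hom ≫ (F'.mapTriangle.obj (Triangle.mk i p δ)).mor₃ := by
    dsimp [Comm, sh] at hδ ⊢
    rw [← cancel_mono ((F'.commShiftIso (1 : ℤ)).inv.app _)]
    simp only [Category.assoc, Iso.hom_inv_id_app, hδ]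
    erw [Category.comp_id]
  obtain ⟨m, h1, h2⟩ := complete_distinguished_triangle_morphism₂ (F.mapTriangle.obj (Triangle.mk i p δ))
    (F'.mapTriangle.obj (Triangle.mk i p δ)) (F.map_distinguished _ hT) (F'.map_distinguished _ hT)
    (ε η c X).hom v.hom hδ'
  let M : F.mapTriangle.obj (Triangle.mk i p δ) ⟶ F'.mapTriangle.obj (Triangle.mk i p δ) :=
    { hom₁ := (ε η c X).hom, hom₂ := m, hom₃ := v.hom, comm₁ := h1, comm₂ := h2, comm₃ := hδ' }
  haveI : IsIso m := isIso₂_of_isIso₁₃ M (F.map_distinguished _ hT) (F'.map_distinguished _ hT)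
    (inferInstanceAs (IsIso (ε η c X).hom)) (inferInstanceAs (IsIso v.hom))
  exact ⟨asIso m, h1, h2⟩

/-- the two functors agree on objects, compatibly with the top term -/
theorem exists_iso (hv : Van F F') {K : Db} {b c : ℤ} {X : A} (i : (sg A c).obj X ⟶ K) (hbc : b ≤ c)
    (hi : Eff b c i) : ∃ φ : F.obj K ≅ F'.obj K, Comm (ε η c X) φ i := by
  obtain ⟨n, hn⟩ : ∃ n : ℕ, c < b + n := ⟨(c - b + 1).toNat, by omega⟩
  induction n generalizing K c X with
  | zero => omega
  | succ n ih =>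
    obtain ⟨C, p, δ, hT, hC⟩ := hi
    by_cases hcb : c - 1 < b
    · haveI : IsIso i := (Triangle.isZero₃_iff_isIso₁ _ hT).1 (hC.isZero hcb)
      refine ⟨(F.mapIso (asIso i)).symm ≪≫ ε η c X ≪≫ F'.mapIso (asIso i), ?_⟩
      dsimp [Comm]
      rw [← F.map_comp_assoc, IsIso.hom_inv_id, F.map_id, Category.id_comp]
    · obtain ⟨W, j, hj⟩ := exists_eff' hC (by omega)
      obtain ⟨v, hv'⟩ := ih j (by omega) hj (by push_cast at hn; omega)
      have hm : (c - 1) + 1 = c := by omega
      have hδ : Comm v (sh 1 (ε η c X)) δ := by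
        obtain ⟨C', p', δ', hT', hC'⟩ := hj
        let d := F.map δ ≫ (sh 1 (ε η c X)).hom - v.hom ≫ F'.map δ
        have h0 : (F.mapTriangle.obj (Triangle.mk j p' δ')).mor₁ ≫ d = 0 := by
          change F.map j ≫ d = 0
          rw [Preadditive.comp_sub, sub_eq_zero, ← Category.assoc, ← F.map_comp, ← Category.assoc, hv',
            Category.assoc, ← F'.map_comp]
          exact comm_sg_shift η hm (j ≫ δ)
        obtain ⟨g, hg⟩ := Triangle.yoneda_exact₂ _ (F.map_distinguished _ hT') d h0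
        have hg0 : g ≫ F'.map (κ c (c - 1) hm X).inv = 0 := hv.zero hC' (by omega) _
        have : d = 0 := by
          rw [← cancel_mono (F'.map (κ c (c - 1) hm X).inv), hg, Category.assoc, hg0, comp_zero, zero_comp]
        exact sub_eq_zero.1 this
      obtain ⟨φ, h1, -⟩ := exists_middle η hT hC v hδ
      exact ⟨φ, h1⟩

end Groth.L29.Sib
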