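import Groth.Agent.L17.Approx.Extend
import Groth.Agent.L17.Approx.Pull
import Groth.Agent.L17.CohClass
import Groth.Agent.L16.Rees.RelVanish
import Groth.Agent.L16.AffineBC.Pullback
import Groth.Agent.L29.DCoh.RpushCoh
import Mathlib.CategoryTheory.Abelian.Subcategory
import Mathlib.CategoryTheory.Abelian.SerreClass.Basic

/-!
Coherent modules inside quasi-coherent modules on a Noetherian scheme: a Serre class with lifts along
epimorphisms.
-/

set_option autoImplicit false
set_option backward.isDefEq.respectTransparency false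
set_option linter.style.haveILetI false

universe u

open CategoryTheory CategoryTheory.Limits AlgebraicGeometry TopologicalSpace Opposite
open scoped ZeroObject

namespace Groth.L29.CohLift

variable {X : Scheme.{u}}

/-- On a Noetherian scheme coherent quotients of quasi-coherent modules are quotients of coherent
submodules. -/
theorem exists_lift [IsNoetherian X] {M Y : X.Modules} (π : M ⟶ Y) [Epi π] (hM : Coh.IsQCoh M)
    (hY : Coh.IsCoh Y) : ∃ (G : X.Modules) (i : G ⟶ M), Mono i ∧ Coh.IsCoh G ∧ Epi (i ≫ π) := by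
  classical
  haveI : Coh.IsQCoh M := hM
  haveI : Coh.IsQCoh Y := hY.1
  obtain ⟨U, hU⟩ : ∃ U : Finset X.affineOpens, ∀ x : X, ∃ V ∈ U, x ∈ (V : X.Opens) := by
    choose V hV hxV hsub using fun x : X =>
      X.isBasis_affineOpens.exists_subset_of_mem_open (Set.mem_univ x) isOpen_univ
    choose W hW hWV using hV
    obtain ⟨t, ht⟩ := isCompact_univ.elim_finite_subcover (fun x : X => ((W x : X.Opens) : Set X))
      (fun x => (W x).2) (fun x _ => Set.mem_iUnion.2 ⟨x, (hWV x).symm ▸ hxV x⟩)
    refine ⟨t.image fun x => (⟨W x, hW x⟩ : X.affineOpens), fun x => ?_⟩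
    obtain ⟨y, hy, hxy⟩ := Set.mem_iUnion₂.1 (ht (Set.mem_univ x))
    exact ⟨_, Finset.mem_image_of_mem _ hy, hxy⟩
  have key : ∀ S : Finset X.affineOpens, ∃ (G : X.Modules) (i : G ⟶ M), Mono i ∧ Coh.IsCoh G ∧
      ∀ V ∈ S, Function.Surjective ((i ≫ π).app (V : X.Opens)) := by
    intro S
    induction S using Finset.induction_on with
    | empty => exact ⟨0, 0, (isZero_zero _).mono _, Groth.L29.DC.RHomC.isCoh_of_isZero (isZero_zero _), by simp⟩
    | @insert V S hVS ih =>
      obtain ⟨G, i, hi, hG, hS⟩ := ih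
      haveI := Groth.L20.ModStalk.finite_sections Y hY V.2
      obtain ⟨s, hs⟩ := Module.Finite.fg_top (R := Γ(X, V.1)) (M := Γ(Y, V.1))
      choose t ht using fun q : (s : Set Γ(Y, V.1)) =>
        Groth.L16.AffineBC.surjective_app_of_epi π V.2 q.1
      obtain ⟨F, j, hj, hF, hFT, hjt⟩ :=
        Groth.L17.Approx.exists_submodule_sections M V.1 V.2.isCompact t
      obtain ⟨C, c, a, b, hc, hC, ha, hb⟩ := Groth.L17.Approx.exists_sup i j hG ⟨hF, hFT⟩
      refine ⟨C, c, hc, hC, fun W hW => ?_⟩
      rcases Finset.mem_insert.1 hW with rfl | hW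
      · let l : Γ(C, W.1) →ₗ[Γ(X, W.1)] Γ(Y, W.1) :=
          { toFun := fun m => (c ≫ π).app W.1 m
            map_add' := fun x y => map_add _ x y
            map_smul' := fun r m => Scheme.Modules.Hom.app_smul (c ≫ π) r m }
        intro y
        have hy : y ∈ LinearMap.range l := by
          refine (?_ : (⊤ : Submodule _ _) ≤ LinearMap.range l) trivial
          rw [← hs, Submodule.span_le]
          intro q hq
          obtain ⟨x, hx⟩ := hjt ⟨q, hq⟩
          refine ⟨b.app W.1 x, ?_⟩
          show π.app W.1 (c.app W.1 (b.app W.1 x)) = q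
          refine Eq.trans ?_ (ht ⟨q, hq⟩)
          rw [← hx, ← hb]
          rfl
        exact hy
      · intro y
        obtain ⟨x, hx⟩ := hS W hW y
        refine ⟨a.app W.1 x, ?_⟩
        rw [← hx, ← ha]
        rfl
  obtain ⟨G, i, hi, hG, hS⟩ := key U
  haveI : Coh.IsQCoh G := hG.1
  refine ⟨G, i, hi, hG, Groth.L17.Approx.epi_of_surjective_cover (i ≫ π) (fun V : U => V.1.1) (fun V => V.1.2)
    (fun x => ?_) fun V => hS V.1 V.2⟩
  obtain ⟨V, hV, hx⟩ := hU x
  exact ⟨⟨V, hV⟩, hx⟩

variable (X) in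
/-- coherent objects of the category of quasi-coherent modules -/
abbrev CohQ : ObjectProperty (ObjectProperty.FullSubcategory fun M : X.Modules => Coh.IsQCoh M) :=
  fun M => Coh.IsCoh M.obj

variable [ObjectProperty.ContainsZero fun M : X.Modules => Coh.IsQCoh M]
  [ObjectProperty.IsClosedUnderKernels fun M : X.Modules => Coh.IsQCoh M]
  [ObjectProperty.IsClosedUnderCokernels fun M : X.Modules => Coh.IsQCoh M]
  [ObjectProperty.IsClosedUnderFiniteProducts fun M : X.Modules => Coh.IsQCoh M]

local notation "ιQ" => ObjectProperty.ι (fun M : X.Modules => Coh.IsQCoh M)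

theorem preservesFiniteLimits_ι : PreservesFiniteLimits ιQ := by
  haveI : ∀ {Y Z : ObjectProperty.FullSubcategory fun M : X.Modules => Coh.IsQCoh M} (f : Y ⟶ Z),
      PreservesLimit (parallelPair f 0) ιQ := fun f => ObjectProperty.preservesKernels_ι _ f
  exact Functor.preservesFiniteLimits_of_preservesKernels _

theorem preservesFiniteColimits_ι : PreservesFiniteColimits ιQ := by
  haveI : ∀ {Y Z : ObjectProperty.FullSubcategory fun M : X.Modules => Coh.IsQCoh M} (f : Y ⟶ Z),
      PreservesColimit (parallelPair f 0) ιQ := fun f => ObjectProperty.preservesCokernels_ι _ f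
  exact Functor.preservesFiniteColimits_of_preservesCokernels _

theorem isSerreClass [IsLocallyNoetherian X] : (CohQ X).IsSerreClass := by
  haveI := preservesFiniteLimits_ι (X := X)
  haveI := preservesFiniteColimits_ι (X := X)
  have hz : (CohQ X).ContainsZero :=
    ⟨⟨0, isZero_zero _, Groth.L29.DC.RHomC.isCoh_of_isZero (Functor.map_isZero ιQ (isZero_zero _))⟩⟩
  have h1 : (CohQ X).IsClosedUnderSubobjects := ⟨fun {Y Z} f _ hZ => by
    haveI : Mono f.hom := (inferInstance : Mono ((ιQ).map f))
    haveI : Coh.IsQCoh Y.obj := Y.property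
    exact Groth.L16.Rees.RelVanish.isCoh_of_mono f.hom hZ⟩
  have h2 : (CohQ X).IsClosedUnderQuotients := ⟨fun {Y Z} f _ hY => by
    haveI : Epi f.hom := (inferInstance : Epi ((ιQ).map f))
    exact ⟨Z.property, Groth.L17.Approx.isFT_of_epi f.hom hY.2⟩⟩
  have h3 : (CohQ X).IsClosedUnderExtensions := ⟨fun {S} hS hA hC =>
    Groth.L17.CohClass.isCoh_of_shortExact _ (hS.map_of_exact ιQ) hA hC⟩
  exact { toContainsZero := hz }

theorem lifts [IsNoetherian X] {M Y : ObjectProperty.FullSubcategory fun M : X.Modules => Coh.IsQCoh M}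
    (π : M ⟶ Y) (hπ : Epi π) (hY : CohQ X Y) :
    ∃ (G : ObjectProperty.FullSubcategory fun M : X.Modules => Coh.IsQCoh M) (i : G ⟶ M),
      Mono i ∧ CohQ X G ∧ Epi (i ≫ π) := by
  haveI := preservesFiniteLimits_ι (X := X)
  haveI := preservesFiniteColimits_ι (X := X)
  haveI : Epi π.hom := (inferInstance : Epi ((ιQ).map π))
  obtain ⟨G, i, hi, hG, he⟩ := exists_lift π.hom M.property hY
  let i' : (⟨G, hG.1⟩ : ObjectProperty.FullSubcategory fun M : X.Modules => Coh.IsQCoh M) ⟶ M :=
    ObjectProperty.homMk i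
  refine ⟨_, i', (ιQ).mono_of_mono_map (f := i') hi, hG, (ιQ).epi_of_epi_map (f := i' ≫ π) he⟩

end Groth.L29.CohLift
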