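import Groth.Agent.L29.Sib.SerreRes
import Groth.Agent.L10.RightStep
import Groth.Agent.L10.ClassRes
import Mathlib.Algebra.Homology.DerivedCategory.Fractions
import Mathlib.Algebra.Homology.DerivedCategory.TStructure
import Mathlib.Algebra.Homology.DerivedCategory.ExactFunctor
import Mathlib.Algebra.Homology.DerivedCategory.KInjective
import Mathlib.Algebra.Homology.QuasiIso

/-!
The bounded below derived category of a class with enough injectives of the ambient category is the bounded
below part of the derived category with cohomology in the class.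
-/

set_option autoImplicit false
set_option backward.defeqAttrib.useBackward true
set_option backward.isDefEq.respectTransparency false
set_option backward.isDefEq.respectTransparency.types false

universe w w' v v' u u'

open CategoryTheory CategoryTheory.Limits Opposite
open scoped ZeroObject

namespace Groth.L29.InjEquiv

variable {A : Type u} [Category.{v} A] [Abelian A] {B : Type u'} [Category.{v'} B] [Abelian B]
  (F : B ⥤ A) [F.Additive] [PreservesFiniteLimits F] [PreservesFiniteColimits F] [F.Full] [F.Faithful]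
  (P : ObjectProperty A)
  (h₁ : ∀ X : B, P (F.obj X)) (h₂ : ∀ Y : A, P Y → ∃ X : B, Nonempty (F.obj X ≅ Y))
  (hiso : ∀ {X Y : A}, (X ≅ Y) → P X → P Y)
  (hcoker : ∀ {X Y : A} (f : X ⟶ Y), P X → P Y → P (cokernel f))
  (hbiprod : ∀ {X Y : A}, P X → P Y → P (X ⊞ Y))
  (hzero : ∀ {X : A}, IsZero X → P X)
  (hemb : ∀ Y : A, P Y → ∃ (T : A) (i : Y ⟶ T), Mono i ∧ P T ∧ Injective T)

local notation "Fc" => F.mapHomologicalComplex (ComplexShape.up ℤ)

include hiso hcoker hbiprod hzero hemb in
theorem exists_coRes (K : CochainComplex A ℤ) (a : ℤ) [K.IsStrictlyGE a] (hK : ∀ n, P (K.homology n)) :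
    ∃ (L : CochainComplex A ℤ) (α : K ⟶ L), L.IsStrictlyGE a ∧ (∀ n, P (L.X n)) ∧ QuasiIso α := by
  let P' : ObjectProperty Aᵒᵖ := fun Y => P Y.unop
  have hc : Groth.L29.SerreRes.Closed P' :=
    { iso := fun e h => hiso e.unop.symm h
      zero := fun h => hzero h.unop
      biprod := fun {X Y} hX hY => hiso (biprod.opIso X.unop Y.unop).unop.symm (hbiprod hX hY)
      ker := fun {X Y} f hX hY => hiso (cokernelUnopUnop f) (hcoker f.unop hY hX) }
  have hl : Groth.L29.SerreRes.LiftsWeak P' := fun X Y π hπ hY => by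
    obtain ⟨T, i, hi, hT, hTi⟩ := hemb _ hY
    refine ⟨op T, (Injective.factorThru i π.unop).op, hT, ?_⟩
    haveI : Mono (π.unop ≫ Injective.factorThru i π.unop) := by rwa [Injective.comp_factorThru]
    exact (inferInstance : Epi (π.unop ≫ Injective.factorThru i π.unop).op)
  haveI : (Groth.L10.RightStep.opC K).IsStrictlyLE (-a) :=
    (CochainComplex.isStrictlyLE_iff _ _).2 fun i hi => (K.isZero_of_isStrictlyGE a (-i) (by omega)).op
  have hH : ∀ n, P' ((Groth.L10.RightStep.opC K).homology n) := fun n => by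
    let e : (Groth.L10.RightStep.opC K).sc' (n - 1) n (n + 1) ≅ (K.sc' (-(n + 1)) (-n) (-(n - 1))).op :=
      ShortComplex.isoMk (Iso.refl _) (Iso.refl _) (Iso.refl _) (by simp [Groth.L10.RightStep.opC_d])
        (by simp [Groth.L10.RightStep.opC_d])
    exact hc.iso ((ShortComplex.homologyMapIso e ≪≫ (K.sc' (-(n + 1)) (-n) (-(n - 1))).homologyOpIso).symm ≪≫
      ShortComplex.homologyMapIso ((Groth.L10.RightStep.opC K).isoSc' (n - 1) n (n + 1) (by simp) (by simp)).symm)
      (hiso (ShortComplex.homologyMapIso (K.isoSc' (-(n + 1)) (-n) (-(n - 1)) (by simp; omega) (by simp; omega)))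
        (hK (-n)))
  obtain ⟨L, π, hL, hP, hπ⟩ := Groth.L29.SerreRes.exists_res_weak hc hl _ (-a) hH
  exact ⟨Groth.L10.RightStep.unopC L, Groth.L10.RightStep.fromOpC π,
    (CochainComplex.isStrictlyGE_iff _ _).2 fun i hi => (L.isZero_of_isStrictlyLE (-a) (-i) (by omega)).unop,
    fun n => hP (-n), Groth.L10.RightStep.quasiIso_fromOpC π⟩

variable [HasDerivedCategory.{w} A] [HasDerivedCategory.{w'} B]

local notation "DF" => F.mapDerivedCategory

include h₁ h₂ hiso hcoker hbiprod hzero hemb in
theorem exists_preimage (K : DerivedCategory A) (a : ℤ) (ha : K.IsGE a)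
    (hK : ∀ n : ℤ, P ((DerivedCategory.homologyFunctor A n).obj K)) :
    ∃ M : DerivedCategory B, M.IsGE a ∧ Nonempty ((DF).obj M ≅ K) := by
  obtain ⟨K₀, hK₀, ⟨e⟩⟩ := K.exists_iso_Q_obj_of_isGE a
  obtain ⟨L, α, hL, hP, hα⟩ := exists_coRes P hiso hcoker hbiprod hzero hemb K₀ a fun n =>
    hiso ((DerivedCategory.homologyFunctor A n).mapIso e ≪≫
      (DerivedCategory.homologyFunctorFactors A n).app K₀) (hK n)
  choose X hX using fun n => h₂ (L.X n) (hP n)
  let eX := fun n => (hX n).some
  let L' : CochainComplex B ℤ :=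
    { X := X
      d := fun i j => F.preimage ((eX i).hom ≫ L.d i j ≫ (eX j).inv)
      shape := fun i j h => F.map_injective (by simp [L.shape i j h])
      d_comp_d' := fun i j k _ _ => F.map_injective (by simp) }
  let g : (Fc).obj L' ≅ L := HomologicalComplex.Hom.isoOfComponents eX (fun i j _ => by simp [L'])
  haveI : L'.IsStrictlyGE a := (CochainComplex.isStrictlyGE_iff _ _).2 fun i hi =>
    IsZero.of_full_of_faithful_of_isZero F _ ((L.isZero_of_isStrictlyGE a i hi).of_iso (eX i))
  exact ⟨DerivedCategory.Q.obj L', inferInstance,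
    ⟨F.mapDerivedCategoryFactors.app L' ≪≫ DerivedCategory.Q.mapIso g ≪≫
      (asIso (DerivedCategory.Q.map α)).symm ≪≫ e.symm⟩⟩

include h₁ h₂ hemb in
theorem map_bijective (M N : DerivedCategory B) (a : ℤ) (hN : N.IsGE a) :
    Function.Bijective (fun φ : M ⟶ N => (DF).map φ) := by
  obtain ⟨N₀, hN₀, ⟨eN⟩⟩ := N.exists_iso_Q_obj_of_isGE a
  let I : B → Prop := fun X => Injective (F.obj X)
  have hI : ∀ X : B, ∃ (Y : B) (ι : X ⟶ Y), I Y ∧ Mono ι := fun X => by
    obtain ⟨T, i, hi, hT, hTi⟩ := hemb _ (h₁ X)
    obtain ⟨Y, ⟨e⟩⟩ := h₂ T hT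
    exact ⟨Y, F.preimage (i ≫ e.inv), Injective.of_iso e.symm hTi,
      F.mono_of_mono_map (by rw [F.map_preimage]; infer_instance)⟩
  obtain ⟨J, α, hJ, hJI, -, hα⟩ := Groth.L10.ClassRes.exists_res I hI
    ⟨0, isZero_zero _, show Injective (F.obj 0) from (F.map_isZero (isZero_zero B)).injective⟩ N₀ a
  obtain ⟨M₀, ⟨eM'⟩⟩ : ∃ M₀, Nonempty (DerivedCategory.Q.obj M₀ ≅ M) :=
    ⟨_, ⟨DerivedCategory.Q.objObjPreimageIso M⟩⟩
  haveI : ∀ n, Injective (J.X n) := fun n => ⟨fun {X Y} g f _ => by
    haveI : Injective (F.obj (J.X n)) := hJI n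
    exact ⟨F.preimage (Injective.factorThru (F.map g) (F.map f)), F.map_injective (by simp)⟩⟩
  haveI : CochainComplex.IsStrictlyGE ((Fc).obj J) a :=
    (CochainComplex.isStrictlyGE_iff _ _).2 fun i hi => show IsZero (F.obj (J.X i)) from
      F.map_isZero (J.isZero_of_isStrictlyGE a i hi)
  haveI : ∀ n, Injective (((Fc).obj J).X n) := fun n => hJI n
  haveI := CochainComplex.isKInjective_of_injective J a
  haveI := CochainComplex.isKInjective_of_injective ((Fc).obj J) a
  let qB : ∀ {X Y : CochainComplex B ℤ}, (X ⟶ Y) → (DerivedCategory.Q.obj X ⟶ DerivedCategory.Q.obj Y) :=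
    fun f => DerivedCategory.Q.map f
  have hbij : Function.Bijective (fun φ : DerivedCategory.Q.obj M₀ ⟶ DerivedCategory.Q.obj J => (DF).map φ) := by
    let eF := F.mapDerivedCategoryFactors
    have hnat : ∀ {X Y : CochainComplex B ℤ} (f : X ⟶ Y), (DF).map (DerivedCategory.Q.map f) =
        eF.hom.app X ≫ DerivedCategory.Q.map ((Fc).map f) ≫ eF.inv.app Y := fun f => by
      have h := eF.hom.naturality f
      dsimp at h
      rw [← reassoc_of% h, Iso.hom_inv_id_app]
      exact (Category.comp_id _).symm
    have hsurjB : ∀ φ : DerivedCategory.Q.obj M₀ ⟶ DerivedCategory.Q.obj J, ∃ f, DerivedCategory.Q.map f = φ := by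
      intro φ
      obtain ⟨g, hg⟩ := (CochainComplex.IsKInjective.Qh_map_bijective
        ((HomotopyCategory.quotient _ _).obj M₀) J).2
        ((DerivedCategory.quotientCompQhIso B).hom.app M₀ ≫ φ ≫ (DerivedCategory.quotientCompQhIso B).inv.app J)
      obtain ⟨f, rfl⟩ := (HomotopyCategory.quotient B (ComplexShape.up ℤ)).map_surjective g
      refine ⟨f, ?_⟩
      have h := (DerivedCategory.quotientCompQhIso B).hom.naturality f
      dsimp at h
      rw [hg] at h
      rw [← cancel_epi ((DerivedCategory.quotientCompQhIso B).hom.app M₀), ← h]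
      simp only [Category.assoc, Iso.inv_hom_id_app]
      exact congrArg _ (Category.comp_id φ)
    constructor
    · intro φ ψ hφψ
      obtain ⟨f, rfl⟩ := hsurjB φ
      obtain ⟨g, rfl⟩ := hsurjB ψ
      have h1 : DerivedCategory.Q.map ((Fc).map f) = DerivedCategory.Q.map ((Fc).map g) := by
        simp only [hnat] at hφψ
        rwa [cancel_epi, cancel_mono] at hφψ
      have h2 : (HomotopyCategory.quotient A _).map ((Fc).map f) = (HomotopyCategory.quotient A _).map ((Fc).map g) := by
        apply (CochainComplex.IsKInjective.Qh_map_bijective _ ((Fc).obj J)).1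
        have hf := (DerivedCategory.quotientCompQhIso A).hom.naturality ((Fc).map f)
        have hg := (DerivedCategory.quotientCompQhIso A).hom.naturality ((Fc).map g)
        dsimp at hf hg
        rw [h1] at hf
        rw [← cancel_mono ((DerivedCategory.quotientCompQhIso A).hom.app ((Fc).obj J))]
        exact hf.trans hg.symm
      let H := HomotopyCategory.homotopyOfEq _ _ h2
      let H' : Homotopy f g :=
        { hom := fun i j => F.preimage (H.hom i j)
          zero := fun i j hij => F.map_injective (by simp [H.zero i j hij])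
          comm := fun i => F.map_injective (by
            have h := H.comm i
            simp only [Functor.mapHomologicalComplex_map_f] at h
            simp only [dNext_eq _ (show (ComplexShape.up ℤ).Rel i (i + 1) from rfl),
              prevD_eq _ (show (ComplexShape.up ℤ).Rel (i - 1) i by simp)] at h ⊢
            simpa using h) }
      exact DerivedCategory.Q_map_eq_of_homotopy _ H'
    · intro φ
      obtain ⟨g, hg⟩ := (CochainComplex.IsKInjective.Qh_map_bijective
        ((HomotopyCategory.quotient _ _).obj ((Fc).obj M₀)) ((Fc).obj J)).2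
        ((DerivedCategory.quotientCompQhIso A).hom.app _ ≫ eF.inv.app M₀ ≫ φ ≫ eF.hom.app J ≫
          (DerivedCategory.quotientCompQhIso A).inv.app _)
      obtain ⟨f, rfl⟩ := (HomotopyCategory.quotient A (ComplexShape.up ℤ)).map_surjective g
      obtain ⟨f', rfl⟩ := (Fc).map_surjective f
      refine ⟨DerivedCategory.Q.map f', ?_⟩
      dsimp only
      rw [hnat]
      have h := (DerivedCategory.quotientCompQhIso A).hom.naturality ((Fc).map f')
      dsimp at h
      rw [hg] at h
      simp only [Category.assoc, Iso.inv_hom_id_app] at h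
      rw [cancel_epi] at h
      rw [← h]
      simp only [Category.assoc, Iso.hom_inv_id_app_assoc]
      simp
  let eN' : DerivedCategory.Q.obj J ≅ N := (asIso (DerivedCategory.Q.map α)).symm ≪≫ eN.symm
  have e : (fun φ : M ⟶ N => (DF).map φ) = (((DF).mapIso eM'.symm).homCongr ((DF).mapIso eN'.symm)).symm ∘
      (fun φ : DerivedCategory.Q.obj M₀ ⟶ DerivedCategory.Q.obj J => (DF).map φ) ∘
      (eM'.symm.homCongr eN'.symm) := by
    funext φ
    simp [Iso.homCongr, ← Functor.map_comp]
  rw [e]
  exact (Equiv.bijective _).comp (hbij.comp (Equiv.bijective _))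

end Groth.L29.InjEquiv
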