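import Groth.Agent.L29.Sib.SerreRes
import Mathlib.Algebra.Homology.DerivedCategory.Fractions
import Mathlib.Algebra.Homology.DerivedCategory.TStructure
import Mathlib.Algebra.Homology.DerivedCategory.ExactFunctor
import Mathlib.Algebra.Homology.QuasiIso

/-!
The bounded above derived category of a Serre class with lifts is the bounded above part of the derived
category with cohomology in the class.
-/

set_option autoImplicit false
set_option backward.defeqAttrib.useBackward true
set_option backward.isDefEq.respectTransparency false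
set_option backward.isDefEq.respectTransparency.types false

universe w w' v v' u u'

open CategoryTheory CategoryTheory.Limits

namespace Groth.L29.SerreRes

variable {A : Type u} [Category.{v} A] [Abelian A] {B : Type u'} [Category.{v'} B] [Abelian B]
  (F : B ⥤ A) [F.Additive] [PreservesFiniteLimits F] [PreservesFiniteColimits F] [F.Full] [F.Faithful]
  (P : ObjectProperty A) [P.IsSerreClass]
  (h₁ : ∀ X : B, P (F.obj X)) (h₂ : ∀ Y : A, P Y → ∃ X : B, Nonempty (F.obj X ≅ Y)) (hl : Lifts P)

local notation "Fc" => F.mapHomologicalComplex (ComplexShape.up ℤ)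

include h₂ hl in
/-- lifting a bounded above complex -/
theorem exists_lift (M : CochainComplex A ℤ) (b : ℤ) [M.IsStrictlyLE b] (hM : ∀ n, P (M.homology n)) :
    ∃ (L : CochainComplex B ℤ) (π : (Fc).obj L ⟶ M), L.IsStrictlyLE b ∧ QuasiIso π := by
  obtain ⟨L, π, hL, hP, hπ⟩ := exists_res hl M b hM
  choose X hX using fun n => h₂ (L.X n) (hP n)
  let e := fun n => (hX n).some
  let L' : CochainComplex B ℤ :=
    { X := X
      d := fun i j => F.preimage ((e i).hom ≫ L.d i j ≫ (e j).inv)
      shape := fun i j h => F.map_injective (by simp [L.shape i j h])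
      d_comp_d' := fun i j k _ _ => F.map_injective (by simp) }
  let g : (Fc).obj L' ≅ L := HomologicalComplex.Hom.isoOfComponents e (fun i j _ => by simp [L'])
  refine ⟨L', g.hom ≫ π, (CochainComplex.isStrictlyLE_iff _ _).2 fun i hi => ?_, inferInstance⟩
  exact IsZero.of_full_of_faithful_of_isZero F _ ((L.isZero_of_isStrictlyLE b i hi).of_iso (e i))

include h₁ in
theorem prop_homology (L : CochainComplex B ℤ) (n : ℤ) : P (((Fc).obj L).homology n) :=
  P.prop_of_iso ((L.sc n).mapHomologyIso F).symm (h₁ _)

include h₁ h₂ hl in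
theorem exists_refine (M : CochainComplex B ℤ) (b : ℤ) {Z : CochainComplex A ℤ} [Z.IsStrictlyLE b]
    (s : Z ⟶ (Fc).obj M) [QuasiIso s] :
    ∃ (L : CochainComplex B ℤ) (u : L ⟶ M) (t : (Fc).obj L ⟶ Z),
      L.IsStrictlyLE b ∧ QuasiIso u ∧ (Fc).map u = t ≫ s := by
  obtain ⟨L, t, hL, ht⟩ := exists_lift F P h₂ hl Z b fun n =>
    P.prop_of_iso (asIso (HomologicalComplex.homologyMap s n)).symm (prop_homology F P h₁ M n)
  obtain ⟨u, hu⟩ := (Fc).map_surjective (t ≫ s)
  refine ⟨L, u, t, hL, ?_, hu⟩
  haveI : QuasiIso ((Fc).map u) := by rw [hu]; infer_instance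
  exact (HomologicalComplex.quasiIso_map_iff_of_preservesHomology u F).1 inferInstance

variable [HasDerivedCategory.{w} A] [HasDerivedCategory.{w'} B]

local notation "DF" => F.mapDerivedCategory

include h₂ hl in
theorem exists_preimage (K : DerivedCategory A) (b : ℤ) (hb : K.IsLE b)
    (hK : ∀ n : ℤ, P ((DerivedCategory.homologyFunctor A n).obj K)) :
    ∃ M : DerivedCategory B, M.IsLE b ∧ Nonempty ((DF).obj M ≅ K) := by
  obtain ⟨K₀, hK₀, ⟨e⟩⟩ := K.exists_iso_Q_obj_of_isLE b
  obtain ⟨L, π, hL, hπ⟩ := exists_lift F P h₂ hl K₀ b fun n =>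
    P.prop_of_iso ((DerivedCategory.homologyFunctor A n).mapIso e ≪≫
      (DerivedCategory.homologyFunctorFactors A n).app K₀) (hK n)
  exact ⟨DerivedCategory.Q.obj L, inferInstance,
    ⟨F.mapDerivedCategoryFactors.app L ≪≫ asIso (DerivedCategory.Q.map π) ≪≫ e.symm⟩⟩

include h₁ h₂ hl in
theorem map_Q_bijective (M N : CochainComplex B ℤ) (b : ℤ) [M.IsStrictlyLE b] [N.IsStrictlyLE b] :
    Function.Bijective (fun φ : DerivedCategory.Q.obj M ⟶ DerivedCategory.Q.obj N => (DF).map φ) := by
  let eF := F.mapDerivedCategoryFactors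
  have hnat : ∀ {X Y : CochainComplex B ℤ} (f : X ⟶ Y), (DF).map (DerivedCategory.Q.map f) =
      eF.hom.app X ≫ DerivedCategory.Q.map ((Fc).map f) ≫ eF.inv.app Y := fun f => by
    have h := eF.hom.naturality f
    dsimp at h
    rw [← reassoc_of% h, Iso.hom_inv_id_app]
    exact (Category.comp_id _).symm
  constructor
  · intro φ ψ hφψ
    rw [← sub_eq_zero]
    obtain ⟨Z, hZ, s, hs, g, hg⟩ := DerivedCategory.right_fac_of_isStrictlyLE (φ - ψ) b
    have hg0 : (DF).map (DerivedCategory.Q.map g) = 0 := by
      have : (DF).map (φ - ψ) = 0 := by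
        rw [Functor.map_sub]
        exact sub_eq_zero.2 hφψ
      rw [hg, Functor.map_comp, ← cancel_epi ((DF).map (DerivedCategory.Q.map s)), ← Functor.map_comp_assoc,
        IsIso.hom_inv_id, comp_zero] at this
      simpa using this
    rw [hnat, ← cancel_epi (eF.inv.app Z), Iso.inv_hom_id_app_assoc, comp_zero, ← cancel_mono (eF.hom.app N),
      zero_comp, Category.assoc, Iso.inv_hom_id_app] at hg0
    have hg1 : DerivedCategory.Qh.map ((HomotopyCategory.quotient A _).map ((Fc).map g)) =
        DerivedCategory.Qh.map ((HomotopyCategory.quotient A _).map 0) := by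
      have h := (DerivedCategory.quotientCompQhIso A).hom.naturality ((Fc).map g)
      dsimp at h
      have hQ : DerivedCategory.Q.map ((Fc).map g) = 0 := (Category.comp_id _).symm.trans hg0
      rw [hQ, comp_zero] at h
      rw [Functor.map_zero, Functor.map_zero, ← cancel_mono ((DerivedCategory.quotientCompQhIso A).hom.app _),
        zero_comp]
      exact h
    obtain ⟨W, t, ht, hW⟩ := (MorphismProperty.map_eq_iff_precomp DerivedCategory.Qh
      (HomotopyCategory.quasiIso A (ComplexShape.up ℤ)) _ _).1 hg1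
    obtain ⟨W, rfl⟩ := HomotopyCategory.quotient_obj_surjective W
    obtain ⟨t, rfl⟩ := (HomotopyCategory.quotient A (ComplexShape.up ℤ)).map_surjective t
    rw [HomotopyCategory.quotient_map_mem_quasiIso_iff, HomologicalComplex.mem_quasiIso_iff] at ht
    rw [← Functor.map_comp, ← Functor.map_comp, comp_zero] at hW
    haveI : QuasiIso (CochainComplex.truncLEMap t b ≫ CochainComplex.ιTruncLE ((Fc).obj Z) b) := by
      haveI : QuasiIso (CochainComplex.truncLEMap t b) := by
        rw [CochainComplex.quasiIso_truncLEMap_iff]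
        intro i hi
        infer_instance
      infer_instance
    obtain ⟨L, u, t', hL, hu, hut⟩ := exists_refine F P h₁ h₂ hl Z b
      (CochainComplex.truncLEMap t b ≫ CochainComplex.ιTruncLE ((Fc).obj Z) b)
    rw [CochainComplex.ιTruncLE_naturality] at hut
    have hug : (HomotopyCategory.quotient A _).map ((Fc).map (u ≫ g)) = (HomotopyCategory.quotient A _).map 0 := by
      rw [Functor.map_comp, hut, Category.assoc, Category.assoc, Functor.map_comp, Functor.map_comp, hW]
      simp
    let H := HomotopyCategory.homotopyOfEq _ _ hug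
    let H' : Homotopy (u ≫ g) 0 :=
      { hom := fun i j => F.preimage (H.hom i j)
        zero := fun i j hij => F.map_injective (by simp [H.zero i j hij])
        comm := fun i => F.map_injective (by
          have h := H.comm i
          simp only [Functor.mapHomologicalComplex_map_f, HomologicalComplex.zero_f, add_zero] at h
          simp only [dNext_eq _ (show (ComplexShape.up ℤ).Rel i (i + 1) from rfl),
            prevD_eq _ (show (ComplexShape.up ℤ).Rel (i - 1) i by simp)] at h ⊢
          simpa using h) }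
    haveI := hu
    have h0 : DerivedCategory.Q.map u ≫ DerivedCategory.Q.map g = 0 := by
      rw [← Functor.map_comp, DerivedCategory.Q_map_eq_of_homotopy _ H', Functor.map_zero]
    rw [hg, (cancel_epi (DerivedCategory.Q.map u)).1 (h0.trans comp_zero.symm), comp_zero]
  · intro φ
    haveI : CochainComplex.IsStrictlyLE ((Fc).obj M) b :=
      (CochainComplex.isStrictlyLE_iff _ _).2 fun i hi => show IsZero (F.obj (M.X i)) from
        F.map_isZero (M.isZero_of_isStrictlyLE b i hi)
    obtain ⟨Z, hZ, s, hs, g, hg⟩ := DerivedCategory.right_fac_of_isStrictlyLE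
      (eF.inv.app M ≫ φ ≫ eF.hom.app N) b
    haveI : QuasiIso s := (DerivedCategory.isIso_Q_map_iff_quasiIso _ s).1 hs
    obtain ⟨L, u, t, hL, hu, hut⟩ := exists_refine F P h₁ h₂ hl M b s
    obtain ⟨v, hv⟩ := (Fc).map_surjective (t ≫ g)
    haveI := hu
    refine ⟨inv (DerivedCategory.Q.map u) ≫ DerivedCategory.Q.map v, ?_⟩
    simp only [Functor.map_comp]
    rw [Functor.map_inv, IsIso.inv_comp_eq, hnat, hnat, hut, hv]
    simp only [Functor.map_comp, Category.assoc]
    have e2 : DerivedCategory.Q.map g = DerivedCategory.Q.map s ≫ eF.inv.app M ≫ φ ≫ eF.hom.app N := by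
      rw [hg, IsIso.hom_inv_id_assoc]
    rw [e2]
    simp

include h₁ h₂ hl in
theorem map_bijective (M N : DerivedCategory B) (b : ℤ) (hM : M.IsLE b) (hN : N.IsLE b) :
    Function.Bijective (fun φ : M ⟶ N => (DF).map φ) := by
  obtain ⟨M₀, _, ⟨eM⟩⟩ := M.exists_iso_Q_obj_of_isLE b
  obtain ⟨N₀, _, ⟨eN⟩⟩ := N.exists_iso_Q_obj_of_isLE b
  have e : (fun φ : M ⟶ N => (DF).map φ) = (((DF).mapIso eM).homCongr ((DF).mapIso eN)).symm ∘
      (fun φ : DerivedCategory.Q.obj M₀ ⟶ DerivedCategory.Q.obj N₀ => (DF).map φ) ∘ (eM.homCongr eN) := by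
    funext φ
    simp [Iso.homCongr, ← Functor.map_comp]
  rw [e]
  exact (Equiv.bijective _).comp ((map_Q_bijective F P h₁ h₂ hl M₀ N₀ b).comp (Equiv.bijective _))

end Groth.L29.SerreRes
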