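import Groth.Agent.L29.Sib.LocNoeth
import Groth.Agent.L29.DCoh.ExtZero
import Groth.Agent.L10.Baer
import Groth.Agent.L00.RpushComp
import Groth.Agent.L16.ProjSpace.AmpleIff
import Groth.Agent.L16.EpiFrames

/-!
On a locally Noetherian scheme the extensions by zero of the structure sheaves of affine opens are separating, their
subobjects are small, sums of injective modules are injective.
-/

set_option autoImplicit false
set_option backward.isDefEq.respectTransparency false
set_option backward.isDefEq.respectTransparency.types false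
set_option linter.style.haveILetI false

universe u

open CategoryTheory CategoryTheory.Limits AlgebraicGeometry TopologicalSpace Opposite

namespace Groth.L29.LocNoeth

open Groth.L18.Frame (rs rs_self)

variable {X : Scheme.{u}}

/-- `j_! O_U` -/
noncomputable abbrev gen (U : X.Opens) : X.Modules :=
  (CxOX.extZero U.ι).obj (Coh.structureModule U)

/-- the tautological section over `U` -/
noncomputable def genSec (U : X.Opens) : Γ(gen U, U.ι ''ᵁ ⊤) :=
  ((CxOX.extZeroAdj U.ι).unit.app (Coh.structureModule U)).app ⊤ (1 : Γ(U, ⊤))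

theorem hom_ext_one {Y : Scheme.{u}} {M : Y.Modules} {a b : Coh.structureModule Y ⟶ M}
    (h : a.app ⊤ (1 : Γ(Y, ⊤)) = b.app ⊤ (1 : Γ(Y, ⊤))) : a = b :=
  Scheme.Modules.hom_ext _ _ fun V => ConcreteCategory.hom_ext _ _ fun r => by
    show a.app V (r : Γ(Y, V)) = b.app V (r : Γ(Y, V))
    rw [Groth.L16.hom_app_eq_smul a, Groth.L16.hom_app_eq_smul b, h]

theorem hom_ext_gen {U : X.Opens} {M : X.Modules} {φ ψ : gen U ⟶ M}
    (h : φ.app (U.ι ''ᵁ ⊤) (genSec U) = ψ.app (U.ι ''ᵁ ⊤) (genSec U)) : φ = ψ := by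
  apply ((CxOX.extZeroAdj U.ι).homEquiv _ _).injective
  apply hom_ext_one
  simp only [Adjunction.homEquiv_unit]
  exact h

/-- the morphism with a given value on the tautological section -/
theorem exists_hom_gen {U : X.Opens} {M : X.Modules} (m : Γ(M, U.ι ''ᵁ ⊤)) :
    ∃ φ : gen U ⟶ M, φ.app (U.ι ''ᵁ ⊤) (genSec U) = m := by
  let b : Coh.structureModule U ⟶ (Scheme.Modules.restrictFunctor U.ι).obj M :=
    Groth.L16.homOfSection ((Scheme.Modules.restrictFunctor U.ι).obj M) m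
  refine ⟨((CxOX.extZeroAdj U.ι).homEquiv _ _).symm b, ?_⟩
  have h := ((CxOX.extZeroAdj U.ι).homEquiv _ _).apply_symm_apply b
  rw [Adjunction.homEquiv_unit] at h
  have h2 := congr(($h).app ⊤ (1 : Γ(U, ⊤)))
  exact h2.trans ((Groth.L16.homOfSection_app ((Scheme.Modules.restrictFunctor U.ι).obj M) m ⊤ (1 : Γ(U, ⊤))).trans
    ((one_smul _ _).trans (rs_self ((Scheme.Modules.restrictFunctor U.ι).obj M) _ _)))

theorem isSeparating_gen :
    ObjectProperty.IsSeparating (.ofObj fun U : X.affineOpens => gen U.1) := by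
  intro M N f g h
  refine Scheme.Modules.hom_ext _ _ fun V => ConcreteCategory.hom_ext _ _ fun m => ?_
  refine TopCat.Sheaf.eq_of_locally_eq' ((Groth.L21.Mod.toAbSh X).obj N)
    (fun W : {W : X.affineOpens // W.1 ≤ V} => W.1.1.ι ''ᵁ ⊤) V
    (fun W => homOfLE ((Scheme.Opens.ι_image_top _).le.trans W.2)) (fun x hx => ?_) _ _ fun W => ?_
  · obtain ⟨_, ⟨W, hW, rfl⟩, hxW, hWV⟩ := X.isBasis_affineOpens.exists_subset_of_mem_open hx V.2
    exact Opens.mem_iSup.2 ⟨⟨⟨W, hW⟩, hWV⟩, (Scheme.Opens.ι_image_top W).ge hxW⟩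
  · have hle : W.1.1.ι ''ᵁ ⊤ ≤ V := (Scheme.Opens.ι_image_top _).le.trans W.2
    obtain ⟨φ, hφ⟩ := exists_hom_gen (U := W.1.1) (rs M hle m)
    have := congr(($(h _ (ObjectProperty.ofObj_apply _ W.1) φ)).app (W.1.1.ι ''ᵁ ⊤) (genSec W.1.1))
    change rs N hle (f.app V m) = rs N hle (g.app V m)
    rw [← Groth.L16.EpiFrames.app_rs, ← Groth.L16.EpiFrames.app_rs, ← hφ]
    exact this

theorem smul_ι (H : X.Modules) (U : X.Opens) (D : U.toScheme.Opens) (c : Γ(X, U.ι ''ᵁ D))
    (m : Γ(H, U.ι ''ᵁ D)) :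
    (show Γ(U.toScheme, D) from c) • (show Γ(H.restrict U.ι, D) from m) = (show Γ(H.restrict U.ι, D) from c • m) := by
  show (U.ι.appIso D).inv (show Γ(U.toScheme, D) from c) • m = c • m
  rw [Scheme.Opens.ι_appIso]
  rfl

theorem exists_smul_genSec {U : X.Opens} {W : U.toScheme.Opens} (m : Γ(gen U, U.ι ''ᵁ W)) :
    ∃ r : Γ(X, U.ι ''ᵁ W), r • rs (gen U) (U.ι.image_mono (le_top : W ≤ ⊤)) (genSec U) = m := by
  haveI := Groth.L29.DC.ExtZero.isIso_unit U.ι
  let η := (CxOX.extZeroAdj U.ι).unit.app (Coh.structureModule U)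
  refine ⟨(inv η).app W m, ?_⟩
  refine Eq.trans (smul_ι (gen U) U W _ _).symm ?_
  refine Eq.trans (Groth.L16.hom_app_eq_smul η W _).symm ?_
  exact congr(($(IsIso.inv_hom_id η)).app W m)

theorem exists_smul_germ {U : X.Opens} {y : X} (hy : y ∈ U.ι ''ᵁ ⊤) (m : (gen U).presheaf.stalk y) :
    ∃ c : X.presheaf.stalk y, c • (gen U).presheaf.germ (U.ι ''ᵁ ⊤) y hy (genSec U) = m := by
  obtain ⟨V, hyV, s, rfl⟩ := (gen U).presheaf.exists_germ_eq (x := y) m
  let W : U.toScheme.Opens := U.ι ⁻¹ᵁ V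
  have hyW : y ∈ U.ι ''ᵁ W := by
    rw [U.ι.image_preimage_eq_opensRange_inf, Scheme.Opens.opensRange_ι]
    exact ⟨(Scheme.Opens.ι_image_top U).le hy, hyV⟩
  have hle : U.ι ''ᵁ W ≤ V := U.ι.image_preimage_le V
  obtain ⟨r, hr⟩ := exists_smul_genSec (rs (gen U) hle s)
  refine ⟨X.presheaf.germ _ y hyW r, ?_⟩
  rw [← Groth.L20.ModStalk.germ_rs (gen U) hle hyW s, ← hr, Groth.L20.ModStalk.germ_smul,
    Groth.L20.ModStalk.germ_rs]

theorem subsingleton_stalk_gen {U : X.Opens} {y : X} (hy : y ∉ U.ι ''ᵁ ⊤) :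
    Subsingleton ((gen U).presheaf.stalk y) :=
  ModuleCat.subsingleton_of_isZero (Groth.L29.DC.ExtZero.isZero_stalk U.ι (x := y)
    (by rwa [Scheme.Opens.ι_image_top, ← SetLike.mem_coe, ← Scheme.Opens.range_ι] at hy) (Coh.structureModule U))

/-- A map out of a submodule of `j_! O_U` is fixed by some member of a stabilising family. -/
theorem exists_fixed_gen [IsLocallyNoetherian X] (U : X.affineOpens) {K L : X.Modules} (i : K ⟶ gen U.1)
    [Mono i] (f : K ⟶ L) {ι : Type*} (E : Finset ι → (L ⟶ L))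
    (hE : ∀ F F', F ⊆ F' → E F ≫ E F' = E F)
    (hEx : ∀ (y : X) (l : L.presheaf.stalk y), ∃ F, st (E F) y l = l) : ∃ F, f ≫ E F = f := by
  have hU : IsAffineOpen (U.1.ι ''ᵁ ⊤) := by rw [Scheme.Opens.ι_image_top]; exact U.2
  haveI : IsNoetherianRing Γ(X, U.1.ι ''ᵁ ⊤) := IsLocallyNoetherian.component_noetherian ⟨_, hU⟩
  exact exists_fixed (e := genSec U.1) hU (fun y hy m => exists_smul_germ hy m)
    (fun y hy => subsingleton_stalk_gen hy) hE hEx i

/-- Sums of injective modules are injective. -/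
theorem injective_coproduct [IsLocallyNoetherian X] {ι : Type u} (I : ι → X.Modules)
    (hI : ∀ j, Injective (I j)) : Injective (∐ I) := by
  classical
  refine Groth.L10.Baer.injective_of_baer _ isSeparating_gen _ fun U K i _ f => ?_
  let E : Finset ι → (∐ I ⟶ ∐ I) := fun F => Limits.Sigma.desc fun j => if j ∈ F then Limits.Sigma.ι I j else 0
  have hE : ∀ F F', F ⊆ F' → E F ≫ E F' = E F := fun F F' h => Limits.Sigma.hom_ext _ _ fun j => by
    by_cases hj : j ∈ F <;> simp [E, hj]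
    simp [h hj]
  have hEx : ∀ (y : X) (l : (∐ I).presheaf.stalk y), ∃ F, st (E F) y l = l := by
    intro y l
    let P : Submodule (X.presheaf.stalk y) ((∐ I).presheaf.stalk y) := ⨆ j, LinearMap.range (st (Limits.Sigma.ι I j) y)
    have hP : ∀ l, l ∈ P := by
      haveI : Epi (Limits.Sigma.desc fun j => (Groth.L00.Stk.F X y).map (Limits.Sigma.ι I j)) :=
        (inferInstance : Epi (sigmaComparison (Groth.L00.Stk.F X y) I))
      intro l
      have h0 : ModuleCat.ofHom P.mkQ = 0 := by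
        rw [← cancel_epi (Limits.Sigma.desc fun j => (Groth.L00.Stk.F X y).map (Limits.Sigma.ι I j)), comp_zero]
        refine Limits.Sigma.hom_ext _ _ fun j => ?_
        rw [Limits.Sigma.ι_desc_assoc, comp_zero]
        ext a
        exact (Submodule.Quotient.mk_eq_zero P).2 (Submodule.mem_iSup_of_mem j ⟨a, rfl⟩)
      exact (Submodule.Quotient.mk_eq_zero P).1 (congr(($h0).hom l))
    refine Submodule.iSup_induction _ (motive := fun l => ∃ F, st (E F) y l = l) (hP l) (fun j _ h => ?_) ?_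
      fun a b ⟨F, hF⟩ ⟨G, hG⟩ => ?_
    · obtain ⟨a, rfl⟩ := h
      exact ⟨{j}, by rw [← st_comp]; simp [E]⟩
    · exact ⟨∅, map_zero _⟩
    · refine ⟨F ∪ G, ?_⟩
      rw [map_add]
      congr 1
      · nth_rw 1 [← hF]
        rw [← st_comp, hE _ _ Finset.subset_union_left, hF]
      · nth_rw 1 [← hG]
        rw [← st_comp, hE _ _ Finset.subset_union_right, hG]
  obtain ⟨F, hF⟩ := exists_fixed_gen U i f E hE hEx
  have hI' := hI
  choose g hg using fun j => (⟨Injective.factorThru (f ≫ Limits.Sigma.π I j) i, Injective.comp_factorThru _ i⟩ :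
    ∃ g : gen U.1 ⟶ I j, i ≫ g = f ≫ Limits.Sigma.π I j)
  refine ⟨∑ j ∈ F, g j ≫ Limits.Sigma.ι I j, ?_⟩
  rw [Preadditive.comp_sum]
  simp only [reassoc_of% hg]
  rw [← Preadditive.comp_sum]
  refine Eq.trans ?_ hF
  congr 1
  refine Limits.Sigma.hom_ext _ _ fun k => ?_
  rw [Preadditive.comp_sum]
  by_cases hk : k ∈ F
  · rw [Finset.sum_eq_single k (fun j _ hj => by simp [Limits.Sigma.ι_π_of_ne_assoc, hj.symm]) (fun h => absurd hk h)]
    simp [E, hk]
  · rw [Finset.sum_eq_zero fun j hj => by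
      rw [Limits.Sigma.ι_π_of_ne_assoc I (by rintro rfl; exact hk hj), zero_comp]]
    simp [E, hk]

end Groth.L29.LocNoeth
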