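import Groth.Agent.L29.Sib.Ext
import Mathlib.Data.Countable.Basic
import Mathlib.Data.Set.Countable

/-!
The bounded derived category of a countable abelian category is countable.
-/

set_option autoImplicit false
set_option backward.defeqAttrib.useBackward true
set_option backward.isDefEq.respectTransparency false
set_option backward.isDefEq.respectTransparency.types false

universe w v u

open CategoryTheory CategoryTheory.Limits CategoryTheory.Pretriangulated DerivedCategory.TStructure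

namespace Groth.L29.Sib

variable {A : Type u} [Category.{v} A] [Abelian A] [HasDerivedCategory.{w} A]

local notation "Db" => DerivedCategory.Bounded A

theorem countable_of_iso {K K' L L' : Db} (e : K ≅ K') (e' : L ≅ L') [Countable (K' ⟶ L')] : Countable (K ⟶ L) :=
  Function.Injective.countable (f := fun f : K ⟶ L => e.inv ≫ f ≫ e'.hom) fun f g h => by
    simpa using congrArg (fun t => e.hom ≫ t ≫ e'.inv) h

theorem countable_mid_left (L : Db) (T : Triangle Db) (hT : T ∈ distTriang Db) [Countable (T.obj₁ ⟶ L)]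
    [Countable (T.obj₃ ⟶ L)] : Countable (T.obj₂ ⟶ L) := by
  classical
  let lift : (T.obj₁ ⟶ L) → (T.obj₂ ⟶ L) := fun g => if h : ∃ f, T.mor₁ ≫ f = g then h.choose else 0
  refine Function.Surjective.countable
    (f := fun x : (T.obj₁ ⟶ L) × (T.obj₃ ⟶ L) => lift x.1 + T.mor₂ ≫ x.2) fun f => ?_
  have h : ∃ f', T.mor₁ ≫ f' = T.mor₁ ≫ f := ⟨f, rfl⟩
  obtain ⟨k, hk⟩ := Triangle.yoneda_exact₂ _ hT (f - lift (T.mor₁ ≫ f)) (by
    rw [Preadditive.comp_sub, sub_eq_zero]
    simp only [lift, dif_pos h]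
    exact h.choose_spec.symm)
  exact ⟨(T.mor₁ ≫ f, k), by simp only; rw [← hk]; abel⟩

theorem countable_mid_right (K : Db) (T : Triangle Db) (hT : T ∈ distTriang Db) [Countable (K ⟶ T.obj₁)]
    [Countable (K ⟶ T.obj₃)] : Countable (K ⟶ T.obj₂) := by
  classical
  let lift : (K ⟶ T.obj₃) → (K ⟶ T.obj₂) := fun g => if h : ∃ f, f ≫ T.mor₂ = g then h.choose else 0
  refine Function.Surjective.countable
    (f := fun x : (K ⟶ T.obj₃) × (K ⟶ T.obj₁) => lift x.1 + x.2 ≫ T.mor₁) fun f => ?_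
  have h : ∃ f', f' ≫ T.mor₂ = f ≫ T.mor₂ := ⟨f, rfl⟩
  obtain ⟨k, hk⟩ := Triangle.coyoneda_exact₂ _ hT (f - lift (f ≫ T.mor₂)) (by
    rw [Preadditive.sub_comp, sub_eq_zero]
    simp only [lift, dif_pos h]
    exact h.choose_spec.symm)
  exact ⟨(f ≫ T.mor₂, k), by simp only; rw [← hk]; abel⟩

variable (hhom : ∀ X Y : A, Countable (X ⟶ Y)) (e : ℕ → A) (hiso : ∀ X : A, ∃ n : ℕ, Nonempty (X ≅ e n))

include hhom hiso in
theorem countable_single (i j : ℤ) (X Y : A) : Countable ((sg A i).obj X ⟶ (sg A j).obj Y) := by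
  obtain ⟨n, hn⟩ : ∃ n : ℕ, i ≤ j + n := ⟨(i - j).toNat, by omega⟩
  induction n generalizing i X with
  | zero =>
    rcases (show i ≤ j by simpa using hn).lt_or_eq with h | h
    · haveI : Subsingleton ((sg A i).obj X ⟶ (sg A j).obj Y) :=
        ⟨fun f g => (hom_zero (amp_sg i X) (amp_sg j Y) h f).trans (hom_zero (amp_sg i X) (amp_sg j Y) h g).symm⟩
      infer_instance
    · subst h
      haveI := hhom X Y
      exact Function.Surjective.countable (f := fun g : X ⟶ Y => (sg A i).map g) (sg A i).map_surjective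
  | succ n ih =>
    by_cases hij : i ≤ j + n
    · exact ih i X hij
    · classical
      haveI : Countable (Σ m : ℕ, {p : e m ⟶ X // Epi p}) := by
        haveI := fun m => hhom (e m) X
        infer_instance
      choose Q q δ hT using fun x : Σ m : ℕ, {p : e m ⟶ X // Epi p} =>
        distinguished_cocone_triangle ((sg A i).map x.2.1)
      haveI hQ : ∀ x, Countable (Q x ⟶ (sg A j).obj Y) := fun x => by
        haveI := x.2.2
        obtain ⟨Q', q', δ', hT', hQ'⟩ := (eff_of_epi (b := i - 1) (amp_sg' (by omega) le_rfl X) (by omega)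
          (𝟙 ((sg A i).obj X)) (by rw [ι'.map_id, CategoryTheory.Functor.map_id]; infer_instance)).comp_epi
          (amp_sg' (by omega) le_rfl X) (by omega) x.2.1
        rw [Category.comp_id] at hT'
        let t := isoTriangleOfIso₁₂ _ _ (hT x) hT' (Iso.refl _) (Iso.refl _)
          (by exact (Category.comp_id _).trans (Category.id_comp _).symm)
        obtain ⟨N, ⟨a⟩⟩ := exists_sg (hQ'.of_iso (Triangle.π₃.mapIso t).symm : Amp (Q x) (i - 1) (i - 1))
        haveI := ih (i - 1) N (by push_cast at hn; omega)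
        exact countable_of_iso a (Iso.refl _)
      refine Function.Surjective.countable
        (f := fun y : (Σ x : (Σ m : ℕ, {p : e m ⟶ X // Epi p}), (Q x ⟶ (sg A j).obj Y)) => q y.1 ≫ y.2) fun α => ?_
      obtain ⟨E, p, hp, hpα⟩ := exists_efface (amp_sg j Y) (show j < i by omega) α
      obtain ⟨m, ⟨em⟩⟩ := hiso E
      let x : Σ m : ℕ, {p : e m ⟶ X // Epi p} := ⟨m, em.inv ≫ p, epi_comp _ _⟩
      obtain ⟨β, hβ⟩ := Triangle.yoneda_exact₂ _ (hT x) α (by
        change (sg A i).map (em.inv ≫ p) ≫ α = 0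
        rw [Functor.map_comp, Category.assoc, hpα, comp_zero])
      exact ⟨⟨x, β⟩, hβ.symm⟩

include hhom hiso in
theorem countable_hom (K L : Db) : Countable (K ⟶ L) :=
  induction_amp (P := fun K => Countable (K ⟶ L)) (fun a h => haveI := h; countable_of_iso a.symm (Iso.refl _))
    (fun K h => haveI : Subsingleton (K ⟶ L) := ⟨h.eq_of_src⟩; inferInstance)
    (fun i X => induction_amp (P := fun L => Countable ((sg A i).obj X ⟶ L))
      (fun a h => haveI := h; countable_of_iso (Iso.refl _) a.symm)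
      (fun L h => haveI : Subsingleton ((sg A i).obj X ⟶ L) := ⟨h.eq_of_tgt⟩; inferInstance)
      (fun j Y => countable_single hhom e hiso i j X Y)
      (fun T hT _ h1 h3 _ => haveI := h1; haveI := h3; countable_mid_right _ T hT) L)
    (fun T hT _ h1 h3 _ => haveI := h1; haveI := h3; countable_mid_left _ T hT) K

include hhom hiso in
theorem exists_countable_amp (n : ℕ) (b : ℤ) :
    ∃ S : Set Db, S.Countable ∧ ∀ K : Db, Amp K b (b + n) → ∃ L ∈ S, Nonempty (K ≅ L) := by
  induction n with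
  | zero =>
    refine ⟨Set.range fun m => (sg A b).obj (e m), Set.countable_range _, fun K hK => ?_⟩
    obtain ⟨X, ⟨a⟩⟩ := exists_sg (show Amp K b b by simpa using hK)
    obtain ⟨m, ⟨em⟩⟩ := hiso X
    exact ⟨_, ⟨m, rfl⟩, ⟨a ≪≫ (sg A b).mapIso em⟩⟩
  | succ n ih =>
    obtain ⟨S, hS, hSK⟩ := ih
    haveI := hS.to_subtype
    let c : ℤ := b + (n + 1 : ℕ)
    haveI := countable_hom hhom e hiso
    choose M i p hT using fun x : Σ y : S × ℕ, (y.1.1 ⟶ ((sg A c).obj (e y.2))⟦(1 : ℤ)⟧) =>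
      distinguished_cocone_triangle₂ x.2
    refine ⟨Set.range M, Set.countable_range _, fun K hK => ?_⟩
    obtain ⟨X, i₀, C, p₀, δ, hT₀, hC⟩ := exists_eff' hK (by omega)
    obtain ⟨L, hL, ⟨a⟩⟩ := hSK C (hC.mono le_rfl (by push_cast; omega))
    obtain ⟨m, ⟨em⟩⟩ := hiso X
    let x : Σ y : S × ℕ, (y.1.1 ⟶ ((sg A c).obj (e y.2))⟦(1 : ℤ)⟧) :=
      ⟨(⟨L, hL⟩, m), a.inv ≫ δ ≫ ((sg A c).map em.hom)⟦(1 : ℤ)⟧'⟩
    refine ⟨M x, ⟨x, rfl⟩, ⟨Triangle.π₂.mapIso (isoTriangleOfIso₁₃ _ _ hT₀ (hT x) ((sg A c).mapIso em) a ?_)⟩⟩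
    dsimp [x]
    simp

include hhom hiso in
theorem exists_enum : ∃ e' : ℕ → Db, ∀ K : Db, ∃ n : ℕ, Nonempty (K ≅ e' n) := by
  choose S hS hSK using fun x : ℕ × ℤ => exists_countable_amp hhom e hiso x.1 x.2
  obtain ⟨K₀, hK₀⟩ := HasZeroObject.zero (C := Db)
  obtain ⟨e', he'⟩ := ((Set.countable_iUnion hS).union (Set.countable_singleton K₀)).exists_eq_range
    ⟨K₀, Or.inr rfl⟩
  refine ⟨e', fun K => ?_⟩
  obtain ⟨b, a, hba, hK⟩ := exists_amp K
  obtain ⟨L, hL, ⟨g⟩⟩ := hSK ((a - b).toNat, b) K (hK.mono le_rfl (by simp only; omega))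
  obtain ⟨n, rfl⟩ : L ∈ Set.range e' := he' ▸ Or.inl (Set.mem_iUnion.2 ⟨_, hL⟩)
  exact ⟨n, ⟨g⟩⟩

end Groth.L29.Sib
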