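import Groth.Prelude.Def_W4stkfunctorsequivSib
import Mathlib.Algebra.Homology.DerivedCategory.SingleTriangle
import Mathlib.Algebra.Homology.DerivedCategory.FullyFaithful
import Mathlib.CategoryTheory.Triangulated.TStructure.TruncLTGE
import Mathlib.Algebra.Homology.DerivedCategory.HomologySequence

/-!
Objects of the bounded derived category are built from shifted objects of the abelian category:
amplitudes, singles in all degrees and the maps hitting the top degree.
-/

set_option autoImplicit false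
set_option backward.defeqAttrib.useBackward true
set_option backward.isDefEq.respectTransparency false
set_option backward.isDefEq.respectTransparency.types false

universe w v u

open CategoryTheory CategoryTheory.Limits CategoryTheory.Pretriangulated DerivedCategory.TStructure

namespace Groth.L29.Sib

variable {A : Type u} [Category.{v} A] [Abelian A] [HasDerivedCategory.{w} A]

local notation "Db" => DerivedCategory.Bounded A

/-- the inclusion in the derived category -/
noncomputable abbrev ι' : Db ⥤ DerivedCategory A := DerivedCategory.Bounded.ι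

variable (A) in
/-- an object in degree `n` -/
noncomputable def sg (n : ℤ) : A ⥤ Db := DEquiv.singleB A ⋙ shiftFunctor Db (-n)

/-- amplitude in `[b, a]` -/
def Amp (K : Db) (b a : ℤ) : Prop := (ι'.obj K).IsGE b ∧ (ι'.obj K).IsLE a

/-- the single object of degree `n` in the derived category -/
noncomputable def sgIso (n : ℤ) (X : A) :
    ι'.obj ((sg A n).obj X) ≅ (DerivedCategory.singleFunctor A n).obj X :=
  ((ι' (A := A)).commShiftIso (-n)).app _ ≪≫
    ((DerivedCategory.singleFunctors A).shiftIso (-n) n 0 (by omega)).app X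

theorem Amp.mono {K : Db} {b a b' a' : ℤ} (h : Amp K b a) (hb : b' ≤ b) (ha : a ≤ a') : Amp K b' a' :=
  haveI := h.1; haveI := h.2
  ⟨t.isGE_of_ge _ b' b hb, t.isLE_of_le _ a a' ha⟩

theorem Amp.of_iso {K L : Db} (e : K ≅ L) {b a : ℤ} (h : Amp K b a) : Amp L b a :=
  haveI := h.1; haveI := h.2
  ⟨t.isGE_of_iso (ι'.mapIso e) b, t.isLE_of_iso (ι'.mapIso e) a⟩

theorem exists_amp (K : Db) : ∃ b a : ℤ, b ≤ a ∧ Amp K b a := by
  obtain ⟨⟨b, hb⟩, ⟨a, ha⟩⟩ := K.2
  exact ⟨min b a, a, min_le_right _ _, Amp.mono (⟨hb, ha⟩ : Amp K b a) (min_le_left _ _) le_rfl⟩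

theorem amp_sg (n : ℤ) (X : A) : Amp ((sg A n).obj X) n n :=
  ⟨t.isGE_of_iso (sgIso n X).symm n, t.isLE_of_iso (sgIso n X).symm n⟩

theorem amp_sg' {b a n : ℤ} (hb : b ≤ n) (ha : n ≤ a) (X : A) : Amp ((sg A n).obj X) b a :=
  (amp_sg n X).mono hb ha

theorem Amp.isZero {K : Db} {b a : ℤ} (h : Amp K b a) (hab : a < b) : IsZero K := by
  haveI := h.1; haveI := h.2
  exact IsZero.of_full_of_faithful_of_isZero ι' _ (t.isZero _ a b hab)

theorem hom_zero {K L : Db} {b a b' a' : ℤ} (hK : Amp K b a) (hL : Amp L b' a') (h : a < b') (f : K ⟶ L) :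
    f = 0 := by
  haveI := hK.2; haveI := hL.1
  exact ι'.map_injective ((t.zero (ι'.map f) a b' h).trans (ι'.map_zero K L).symm)

theorem Amp.ext {T : Triangle Db} (hT : T ∈ distTriang Db) {b a : ℤ} (h₁ : Amp T.obj₁ b a) (h₃ : Amp T.obj₃ b a) :
    Amp T.obj₂ b a :=
  ⟨t.isGE₂ _ (ι'.map_distinguished T hT) b h₁.1 h₃.1, t.isLE₂ _ (ι'.map_distinguished T hT) a h₁.2 h₃.2⟩

instance : (DEquiv.singleB A).Full := by
  refine ⟨fun {X Y} f => ⟨(DerivedCategory.singleFunctor A 0).preimage (ι'.map f), ι'.map_injective ?_⟩⟩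
  exact (DerivedCategory.singleFunctor A 0).map_preimage _

instance : (DEquiv.singleB A).Faithful := by
  refine ⟨fun {X Y} f g h => (DerivedCategory.singleFunctor A 0).map_injective ?_⟩
  exact congrArg (fun t => ι'.map t) h

instance : (DEquiv.singleB A).Additive := by
  refine ⟨fun {X Y} {f g} => ι'.map_injective ?_⟩
  rw [(ι' (A := A)).map_add]
  exact (DerivedCategory.singleFunctor A 0).map_add

instance (n : ℤ) : (sg A n).Full := by unfold sg; infer_instance

instance (n : ℤ) : (sg A n).Faithful := by unfold sg; infer_instance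

instance (n : ℤ) : (sg A n).Additive := by unfold sg; infer_instance

theorem exists_sg {K : Db} {n : ℤ} (h : Amp K n n) : ∃ X : A, Nonempty (K ≅ (sg A n).obj X) := by
  haveI := h.1; haveI := h.2
  obtain ⟨X, ⟨e⟩⟩ := DerivedCategory.exists_iso_singleFunctor_obj_of_isGE_of_isLE (ι'.obj K) n
  exact ⟨X, ⟨ι'.preimageIso (e ≪≫ (sgIso n X).symm)⟩⟩

/-- `i` hits the top degree `c` of an object of amplitude `[b, c]` -/
def Eff (b c : ℤ) {X : A} {K : Db} (i : (sg A c).obj X ⟶ K) : Prop :=
  ∃ (C : Db) (p : K ⟶ C) (δ : C ⟶ ((sg A c).obj X)⟦(1 : ℤ)⟧),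
    Triangle.mk i p δ ∈ distTriang Db ∧ Amp C b (c - 1)

theorem epi_homologyMap_top {M N : CochainComplex A ℤ} (f : M ⟶ N) (c : ℤ) [Epi (f.f c)]
    (hM : M.d c (c + 1) = 0) (hN : N.d c (c + 1) = 0) : Epi (HomologicalComplex.homologyMap f c) := by
  haveI := M.isIso_iCycles c (c + 1) (by simp) hM
  haveI := N.isIso_iCycles c (c + 1) (by simp) hN
  haveI : Epi (HomologicalComplex.cyclesMap f c) := by
    have e1 : HomologicalComplex.cyclesMap f c = M.iCycles c ≫ f.f c ≫ inv (N.iCycles c) := by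
      rw [← cancel_mono (N.iCycles c), Category.assoc, Category.assoc, IsIso.inv_hom_id, Category.comp_id,
        HomologicalComplex.cyclesMap_i]
    rw [e1]
    infer_instance
  exact epi_of_epi_fac (HomologicalComplex.homologyπ_naturality f c)

theorem epi_homologyFunctor_map {M N : CochainComplex A ℤ} (f : M ⟶ N) (c : ℤ)
    [Epi (HomologicalComplex.homologyMap f c)] :
    Epi ((DerivedCategory.homologyFunctor A c).map (DerivedCategory.Q.map f)) :=
  ((MorphismProperty.epimorphisms A).arrow_mk_iso_iff (((Functor.mapArrowFunctor _ _).mapIso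
    (DerivedCategory.homologyFunctorFactors A c)).app (Arrow.mk f))).2
    (MorphismProperty.epimorphisms.infer_property (HomologicalComplex.homologyMap f c))

/-- a map surjective on the top cohomology has cone of smaller amplitude -/
theorem eff_of_epi {K : Db} {b c : ℤ} (hK : Amp K b c) (hbc : b < c) {X : A} (i : (sg A c).obj X ⟶ K)
    (hi : Epi ((DerivedCategory.homologyFunctor A c).map (ι'.map i))) : Eff b c i := by
  haveI := hK.1; haveI := hK.2
  obtain ⟨C, p, δ, hT⟩ := distinguished_cocone_triangle i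
  refine ⟨C, p, δ, hT, ?_⟩
  have hS : ∀ j, j ≠ c → IsZero ((DerivedCategory.homologyFunctor A j).obj (ι'.obj ((sg A c).obj X))) := by
    intro j hj
    haveI := (amp_sg c X).1; haveI := (amp_sg c X).2
    rcases lt_or_gt_of_ne hj with h | h
    · exact DerivedCategory.isZero_of_isGE _ c j h
    · exact DerivedCategory.isZero_of_isLE _ c j h
  have hT' := ι'.map_distinguished _ hT
  have hC : ∀ j, IsZero ((DerivedCategory.homologyFunctor A (j + 1)).obj (ι'.obj ((sg A c).obj X))) →
      IsZero ((DerivedCategory.homologyFunctor A j).obj (ι'.obj K)) →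
      IsZero ((DerivedCategory.homologyFunctor A j).obj (ι'.obj C)) := fun j h1 h2 =>
    (DerivedCategory.HomologySequence.exact₃ _ hT' j (j + 1) rfl).isZero_of_both_zeros
      (h2.eq_of_src _ _) (h1.eq_of_tgt _ _)
  refine ⟨(DerivedCategory.isGE_iff _ _).2 fun j hj =>
      hC j (hS _ (by omega)) (DerivedCategory.isZero_of_isGE _ b j hj),
    (DerivedCategory.isLE_iff _ _).2 fun j hj => ?_⟩
  by_cases hjc : j = c
  · subst hjc
    refine (DerivedCategory.HomologySequence.exact₃ _ hT' j (j + 1) rfl).isZero_of_both_zeros ?_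
      ((hS _ (by omega)).eq_of_tgt _ _)
    exact (DerivedCategory.HomologySequence.epi_homologyMap_mor₁_iff _ hT' j).1 hi
  · exact hC j (hS _ (by omega)) (DerivedCategory.isZero_of_isLE _ c j (by omega))

/-- and conversely -/
theorem Eff.epi {K : Db} {b c : ℤ} {X : A} {i : (sg A c).obj X ⟶ K} (h : Eff b c i) :
    Epi ((DerivedCategory.homologyFunctor A c).map (ι'.map i)) := by
  obtain ⟨C, p, δ, hT, hC⟩ := h
  haveI := hC.2
  exact (DerivedCategory.HomologySequence.epi_homologyMap_mor₁_iff _ (ι'.map_distinguished _ hT) c).2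
    ((DerivedCategory.isZero_of_isLE (ι'.obj C) (c - 1) c (by omega)).eq_of_tgt _ _)

/-- the map out of the top term -/
theorem exists_eff {K : Db} {b c : ℤ} (hK : Amp K b c) (hbc : b < c) :
    ∃ (X : A) (i : (sg A c).obj X ⟶ K), Eff b c i := by
  haveI := hK.1; haveI := hK.2
  obtain ⟨M, hM, ⟨e⟩⟩ := (ι'.obj K).exists_iso_Q_obj_of_isLE c
  have hd : M.d c (c + 1) = 0 := (M.isZero_of_isStrictlyLE c (c + 1) (by omega)).eq_of_tgt _ _
  let f : (HomologicalComplex.single A (ComplexShape.up ℤ) c).obj (M.X c) ⟶ M :=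
    HomologicalComplex.mkHomFromSingle (𝟙 _) (fun k hk => by
      obtain rfl : k = c + 1 := hk.symm
      simp [hd])
  haveI : Epi (f.f c) := by
    rw [HomologicalComplex.mkHomFromSingle_f, Category.comp_id]
    infer_instance
  haveI := epi_homologyMap_top f c
    ((HomologicalComplex.isZero_single_obj_X (ComplexShape.up ℤ) c _ (c + 1) (by omega)).eq_of_tgt _ _) hd
  haveI := epi_homologyFunctor_map f c
  let g : (DerivedCategory.singleFunctor A c).obj (M.X c) ⟶ DerivedCategory.Q.obj M :=
    ((DerivedCategory.singleFunctorIsoCompQ A c).app _).hom ≫ DerivedCategory.Q.map f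
  refine ⟨M.X c, ι'.preimage ((sgIso c _).hom ≫ g ≫ e.inv), eff_of_epi hK hbc _ ?_⟩
  rw [Functor.map_preimage]
  simp only [g, Functor.map_comp]
  infer_instance

/-- precomposing with an epimorphism keeps hitting the top degree -/
theorem Eff.comp_epi {K : Db} {b c : ℤ} {X N : A} {i : (sg A c).obj X ⟶ K} (h : Eff b c i) (hK : Amp K b c)
    (hbc : b < c) (π : N ⟶ X) [Epi π] : Eff b c ((sg A c).map π ≫ i) := by
  refine eff_of_epi hK hbc _ ?_
  haveI := h.epi
  let f := (HomologicalComplex.single A (ComplexShape.up ℤ) c).map π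
  haveI : Epi (f.f c) := by
    simp only [f, HomologicalComplex.single_map_f_self]
    infer_instance
  haveI := epi_homologyMap_top f c
    ((HomologicalComplex.isZero_single_obj_X (ComplexShape.up ℤ) c _ (c + 1) (by omega)).eq_of_tgt _ _)
    ((HomologicalComplex.isZero_single_obj_X (ComplexShape.up ℤ) c _ (c + 1) (by omega)).eq_of_tgt _ _)
  haveI := epi_homologyFunctor_map f c
  have e : ι'.map ((sg A c).map π) =
      (sgIso c N).hom ≫ DerivedCategory.Q.map f ≫ (sgIso c X).inv := by
    have n1 := ((ι' (A := A)).commShiftIso (-c)).hom.naturality ((DEquiv.singleB A).map π)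
    have n2 := (((DerivedCategory.singleFunctors A).shiftIso (-c) c 0 (by omega))).hom.naturality π
    have e1 : ι'.map ((sg A c).map π) ≫ (sgIso c X).hom = (sgIso c N).hom ≫ (DerivedCategory.singleFunctor A c).map π := by
      dsimp [sgIso, sg] at n1 n2 ⊢
      rw [reassoc_of% n1, Category.assoc]
      exact congrArg (_ ≫ ·) n2
    rw [← Category.assoc, ← cancel_mono (sgIso c X).hom, Category.assoc, Iso.inv_hom_id, Category.comp_id]
    exact e1
  rw [Functor.map_comp, e]
  simp only [Functor.map_comp]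
  infer_instance

/-- maps into an object in negative degrees are killed by an epimorphism -/
theorem exists_efface {b a n : ℤ} {C : Db} (hC : Amp C b a) (hn : a < n) {X : A} (α : (sg A n).obj X ⟶ C) :
    ∃ (E : A) (p : E ⟶ X), Epi p ∧ (sg A n).map p ≫ α = 0 := by
  obtain ⟨W, q, w, hT⟩ : ∃ (W : Db) (q : C ⟶ W) (w : W ⟶ ((sg A n).obj X)⟦(1 : ℤ)⟧),
      Triangle.mk α q w ∈ distTriang Db := distinguished_cocone_triangle α
  let T := Triangle.mk α q w
  let T' := T.invRotate
  have hT' : T' ∈ distTriang Db := inv_rot_of_distTriang _ hT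
  -- `T'.obj₁ → X → C`
  let b' := min b a
  have hC' : Amp C b' a := hC.mono (min_le_left _ _) le_rfl
  have hU : Amp T'.obj₁ b' n := by
    let T'' := T'.invRotate
    have hT'' : T'' ∈ distTriang Db := inv_rot_of_distTriang _ hT'
    refine Amp.ext (T := T'') hT'' ?_ (amp_sg' (by omega) le_rfl X)
    haveI := hC'.1; haveI := hC'.2
    haveI := t.isGE_shift (ι'.obj C) b' (-1 : ℤ) (b' + 1) (by omega)
    haveI := t.isLE_shift (ι'.obj C) a (-1 : ℤ) (a + 1) (by omega)
    haveI := t.isGE_of_ge ((ι'.obj C)⟦(-1 : ℤ)⟧) b' (b' + 1) (by omega)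
    haveI := t.isLE_of_le ((ι'.obj C)⟦(-1 : ℤ)⟧) (a + 1) n (by omega)
    let e : ι'.obj (C⟦(-1 : ℤ)⟧) ≅ (ι'.obj C)⟦(-1 : ℤ)⟧ := ((ι' (A := A)).commShiftIso (-1 : ℤ)).app C
    exact ⟨t.isGE_of_iso e.symm b', t.isLE_of_iso e.symm n⟩
  obtain ⟨E, j, hj⟩ := exists_eff hU (by omega)
  obtain ⟨p, hp⟩ := (sg A n).map_surjective (j ≫ T'.mor₁)
  refine ⟨E, p, ?_, ?_⟩
  · refine Preadditive.epi_of_cancel_zero _ fun {Y} g hg => (sg A n).map_injective ?_
    rw [Functor.map_zero]
    obtain ⟨D, r, δ, hD, hDa⟩ := hj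
    have h0 : T'.mor₁ ≫ (sg A n).map g = 0 := by
      obtain ⟨k, hk⟩ := Triangle.yoneda_exact₂ _ hD (T'.mor₁ ≫ (sg A n).map g) (by
        change j ≫ _ = 0
        rw [← Category.assoc, ← hp, ← Functor.map_comp, hg, Functor.map_zero])
      rw [hk, hom_zero hDa (amp_sg n Y) (by omega) k, comp_zero]
    obtain ⟨k, hk⟩ := Triangle.yoneda_exact₂ _ hT' ((sg A n).map g) h0
    rw [hk, hom_zero (K := T'.obj₃) hC' (amp_sg n Y) hn k, comp_zero]
  · rw [hp, Category.assoc]
    exact (congrArg (j ≫ ·) (comp_distTriang_mor_zero₁₂ _ hT')).trans comp_zero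

end Groth.L29.Sib
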