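import Groth.Agent.L29.Sib.Comm
import Groth.Agent.L29.FFAdj
import Mathlib.CategoryTheory.Triangulated.Yoneda
import Mathlib.Algebra.FiveLemma

/-!
The identification on single objects commutes with every map between shifted single objects, hence a
functor agreeing on the abelian category with a fully faithful one is fully faithful.
-/

set_option autoImplicit false
set_option backward.defeqAttrib.useBackward true
set_option backward.isDefEq.respectTransparency false
set_option backward.isDefEq.respectTransparency.types false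

universe w v u v' u'

open CategoryTheory CategoryTheory.Limits CategoryTheory.Pretriangulated DerivedCategory.TStructure

namespace Groth.L29.Sib

variable {A : Type u} [Category.{v} A] [Abelian A] [HasDerivedCategory.{w} A]

local notation "Db" => DerivedCategory.Bounded A

variable {D : Type u'} [Category.{v'} D] [Preadditive D] [HasZeroObject D] [HasShift D ℤ]
  [∀ n : ℤ, (shiftFunctor D n).Additive] [Pretriangulated D]
  {F F' : DerivedCategory.Bounded A ⥤ D} [F.CommShift ℤ] [F'.CommShift ℤ]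
  [F.IsTriangulated] [F'.IsTriangulated] (η : DEquiv.singleB A ⋙ F ≅ DEquiv.singleB A ⋙ F')

/-- every map between shifted single objects commutes with the identifications -/
theorem comm_single (hv : Van F F') {i j : ℤ} {X Y : A} (α : (sg A i).obj X ⟶ (sg A j).obj Y) :
    Comm (ε η i X) (ε η j Y) α := by
  obtain ⟨n, hn⟩ : ∃ n : ℕ, i ≤ j + n := ⟨(i - j).toNat, by omega⟩
  induction n generalizing i X with
  | zero =>
    rcases (show i ≤ j by simpa using hn).lt_or_eq with h | h
    · rw [hom_zero (amp_sg i X) (amp_sg j Y) h α, Comm, F.map_zero, F'.map_zero, zero_comp, comp_zero]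
    · subst h; exact comm_sg η α
  | succ n ih =>
    by_cases hij : i ≤ j + n
    · exact ih α hij
    · obtain ⟨E, p, hp, hpα⟩ := exists_efface (amp_sg j Y) (show j < i by omega) α
      have hid : Eff (i - 1) i (𝟙 ((sg A i).obj X)) := eff_of_epi (amp_sg' (by omega) le_rfl X) (by omega) _
        (by rw [ι'.map_id, CategoryTheory.Functor.map_id]; infer_instance)
      obtain ⟨Q, q, δ, hT, hQ⟩ := hid.comp_epi (amp_sg' (by omega) le_rfl X) (by omega) p
      rw [Category.comp_id] at hT
      obtain ⟨β, hβ⟩ := Triangle.yoneda_exact₂ _ hT α hpα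
      obtain ⟨N, ⟨e⟩⟩ := exists_sg hQ
      let v : F.obj Q ≅ F'.obj Q := F.mapIso e ≪≫ ε η (i - 1) N ≪≫ (F'.mapIso e).symm
      have he : Comm (ε η (i - 1) N) v e.inv := by
        dsimp [Comm, v]
        rw [← F.map_comp_assoc, Iso.inv_hom_id, F.map_id, Category.id_comp]
      have hvδ : Comm v (sh 1 (ε η i E)) δ := by
        have h := comm_sg_shift η (show (i - 1) + 1 = i by omega) (e.inv ≫ δ)
        dsimp [Comm, v] at h ⊢
        rw [Category.assoc, Category.assoc, ← F'.map_comp, ← h, ← Category.assoc, ← F.map_comp,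
          Iso.hom_inv_id_assoc]
      have hq : Comm (ε η i X) v q := by
        have hc₁ : (F.mapTriangle.obj (Triangle.mk ((sg A i).map p) q δ)).mor₁ ≫ (ε η i X).hom =
            (ε η i E).hom ≫ (F'.mapTriangle.obj (Triangle.mk ((sg A i).map p) q δ)).mor₁ := comm_sg η _
        obtain ⟨(c : F.obj Q ⟶ F'.obj Q), h2, h3⟩ := complete_distinguished_triangle_morphism
          (F.mapTriangle.obj (Triangle.mk ((sg A i).map p) q δ))
          (F'.mapTriangle.obj (Triangle.mk ((sg A i).map p) q δ)) (F.map_distinguished _ hT)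
          (F'.map_distinguished _ hT) (ε η i E).hom (ε η i X).hom hc₁
        have h0 : (c - v.hom) ≫ (F'.mapTriangle.obj (Triangle.mk ((sg A i).map p) q δ)).mor₃ = 0 := by
          dsimp [Comm, sh] at h3 hvδ ⊢
          rw [Preadditive.sub_comp, ← h3, ← Category.assoc v.hom, ← hvδ]
          simp only [Category.assoc, Iso.inv_hom_id_app]
          erw [Category.comp_id]
          exact sub_self _
        obtain ⟨g, hg⟩ := Triangle.coyoneda_exact₃ _ (F'.map_distinguished _ hT) (c - v.hom) h0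
        have hg0 : F.map e.inv ≫ g = 0 := hv N X (i - 1) i (by omega) _
        have hg' : g = 0 := by
          rw [← cancel_epi (F.map e.inv), hg0, comp_zero]
        rw [hg', zero_comp, sub_eq_zero] at hg
        subst hg
        exact h2
      obtain rfl : α = q ≫ β := hβ
      have hβ' : Comm v (ε η j Y) β := by
        have h := he.inv (e := e.symm)
        have h' := ih (e.inv ≫ β) (by push_cast at hn; omega)
        have : β = e.hom ≫ (e.inv ≫ β) := (Iso.hom_inv_id_assoc e β).symm
        rw [this]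
        exact Comm.comp h h'
      exact Comm.comp hq hβ'

open Groth.L29.FF in
theorem bij_single [F.Full] [F.Faithful] (η : DEquiv.singleB A ⋙ F ≅ DEquiv.singleB A ⋙ F') (i j : ℤ) (X Y : A) :
    Bij F' ((sg A i).obj X) ((sg A j).obj Y) := by
  have hc : ∀ α : (sg A i).obj X ⟶ (sg A j).obj Y, F'.map α = (ε η i X).inv ≫ F.map α ≫ (ε η j Y).hom := fun α => by
    rw [comm_single η (Van.of_full η) α, Iso.inv_hom_id_assoc]
  refine ⟨fun f g h => F.map_injective ?_, fun φ => ?_⟩
  · dsimp only at h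
    rw [hc, hc, cancel_epi, cancel_mono] at h
    exact h
  · obtain ⟨α, hα⟩ := F.map_surjective ((ε η i X).hom ≫ φ ≫ (ε η j Y).inv)
    exact ⟨α, by simp [hc, hα]⟩

section Five

variable {C : Type*} [Category C] [Preadditive C] [HasZeroObject C] [HasShift C ℤ]
  [∀ n : ℤ, (shiftFunctor C n).Additive] [Pretriangulated C] (G : C ⥤ D) [G.CommShift ℤ] [G.IsTriangulated]

open Groth.L29.FF in
theorem bij_mid_right (K : C) (T : Triangle C) (hT : T ∈ distTriang C) (h0 : Bij G K T.invRotate.obj₁)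
    (h1 : Bij G K T.obj₁) (h3 : Bij G K T.obj₃) (h4 : Bij G K T.rotate.obj₃) : Bij G K T.obj₂ := by
  haveI : G.Additive := inferInstance
  let t : ∀ Z, (K ⟶ Z) →+ (G.obj K ⟶ G.obj Z) := fun Z => AddMonoidHom.mk' G.map fun _ _ => G.map_add
  let a : ∀ {Z W : C} (_ : Z ⟶ W), (K ⟶ Z) →+ (K ⟶ W) := fun f => AddMonoidHom.mk' (· ≫ f) (by simp)
  let b : ∀ {Z W : C} (_ : Z ⟶ W), (G.obj K ⟶ G.obj Z) →+ (G.obj K ⟶ G.obj W) :=
    fun f => AddMonoidHom.mk' (· ≫ G.map f) (by simp)
  have ha : ∀ T : Triangle C, T ∈ distTriang C → Function.Exact (a T.mor₁) (a T.mor₂) := fun T hT f =>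
    ⟨fun hf => (Triangle.coyoneda_exact₂ T hT f hf).imp fun g hg => hg.symm,
      fun ⟨g, hg⟩ => by subst hg; exact (Category.assoc _ _ _).trans (by rw [comp_distTriang_mor_zero₁₂ T hT, comp_zero])⟩
  have hb : ∀ T : Triangle C, T ∈ distTriang C → Function.Exact (b T.mor₁) (b T.mor₂) := fun T hT f =>
    ⟨fun hf => (Triangle.coyoneda_exact₂ _ (G.map_distinguished T hT) f hf).imp fun g hg => hg.symm,
      fun ⟨g, hg⟩ => by
        subst hg
        exact (Category.assoc _ _ _).trans (by rw [← G.map_comp, comp_distTriang_mor_zero₁₂ T hT, G.map_zero, comp_zero])⟩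
  exact AddMonoidHom.bijective_of_surjective_of_bijective_of_bijective_of_injective
    (a T.invRotate.mor₁) (a T.mor₁) (a T.mor₂) (a T.mor₃)
    (b T.invRotate.mor₁) (b T.mor₁) (b T.mor₂) (b T.mor₃)
    (t _) (t _) (t _) (t _) (t _)
    (AddMonoidHom.ext fun f => (G.map_comp f _).symm) (AddMonoidHom.ext fun f => (G.map_comp f _).symm)
    (AddMonoidHom.ext fun f => (G.map_comp f _).symm) (AddMonoidHom.ext fun f => (G.map_comp f _).symm)
    (ha _ (inv_rot_of_distTriang _ hT)) (ha _ hT) (ha _ (rot_of_distTriang _ hT))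
    (hb _ (inv_rot_of_distTriang _ hT)) (hb _ hT) (hb _ (rot_of_distTriang _ hT))
    h0.2 h1 h3 h4.1

open Groth.L29.FF in
theorem bij_mid_left (L : C) (T : Triangle C) (hT : T ∈ distTriang C) (h0 : Bij G T.invRotate.obj₁ L)
    (h1 : Bij G T.obj₁ L) (h3 : Bij G T.obj₃ L) (h4 : Bij G T.rotate.obj₃ L) : Bij G T.obj₂ L := by
  haveI : G.Additive := inferInstance
  let t : ∀ Z, (Z ⟶ L) →+ (G.obj Z ⟶ G.obj L) := fun Z => AddMonoidHom.mk' G.map fun _ _ => G.map_add
  let a : ∀ {Z W : C} (_ : Z ⟶ W), (W ⟶ L) →+ (Z ⟶ L) := fun f => AddMonoidHom.mk' (f ≫ ·) (by simp)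
  let b : ∀ {Z W : C} (_ : Z ⟶ W), (G.obj W ⟶ G.obj L) →+ (G.obj Z ⟶ G.obj L) :=
    fun f => AddMonoidHom.mk' (G.map f ≫ ·) (by simp)
  have ha : ∀ T : Triangle C, T ∈ distTriang C → Function.Exact (a T.mor₂) (a T.mor₁) := fun T hT f =>
    ⟨fun hf => (Triangle.yoneda_exact₂ T hT f hf).imp fun g hg => hg.symm,
      fun ⟨g, hg⟩ => by subst hg; exact (Category.assoc _ _ _).symm.trans (by rw [comp_distTriang_mor_zero₁₂ T hT, zero_comp])⟩
  have hb : ∀ T : Triangle C, T ∈ distTriang C → Function.Exact (b T.mor₂) (b T.mor₁) := fun T hT f =>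
    ⟨fun hf => (Triangle.yoneda_exact₂ _ (G.map_distinguished T hT) f hf).imp fun g hg => hg.symm,
      fun ⟨g, hg⟩ => by
        subst hg
        exact (Category.assoc _ _ _).symm.trans (by rw [← G.map_comp, comp_distTriang_mor_zero₁₂ T hT, G.map_zero, zero_comp])⟩
  exact AddMonoidHom.bijective_of_surjective_of_bijective_of_bijective_of_injective
    (a T.mor₃) (a T.mor₂) (a T.mor₁) (a T.invRotate.mor₁)
    (b T.mor₃) (b T.mor₂) (b T.mor₁) (b T.invRotate.mor₁)
    (t _) (t _) (t _) (t _) (t _)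
    (AddMonoidHom.ext fun f => (G.map_comp _ f).symm) (AddMonoidHom.ext fun f => (G.map_comp _ f).symm)
    (AddMonoidHom.ext fun f => (G.map_comp _ f).symm) (AddMonoidHom.ext fun f => (G.map_comp _ f).symm)
    (ha _ (rot_of_distTriang _ hT)) (ha _ hT) (ha _ (inv_rot_of_distTriang _ hT))
    (hb _ (rot_of_distTriang _ hT)) (hb _ hT) (hb _ (inv_rot_of_distTriang _ hT))
    h4.2 h3 h1 h0.1

end Five

theorem Amp.shift {K : Db} {b a : ℤ} (h : Amp K b a) (k : ℤ) : Amp (K⟦k⟧) (b - k) (a - k) := by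
  haveI := h.1; haveI := h.2
  haveI := t.isGE_shift (ι'.obj K) b k (b - k) (by omega)
  haveI := t.isLE_shift (ι'.obj K) a k (a - k) (by omega)
  let e : ι'.obj (K⟦k⟧) ≅ (ι'.obj K)⟦k⟧ := ((ι' (A := A)).commShiftIso k).app K
  exact ⟨t.isGE_of_iso e.symm _, t.isLE_of_iso e.symm _⟩

/-- dévissage along the amplitude -/
theorem induction_amp {P : Db → Prop} (hiso : ∀ {K L : Db}, (K ≅ L) → P K → P L) (hzero : ∀ K, IsZero K → P K)
    (hsg : ∀ i X, P ((sg A i).obj X))
    (hmid : ∀ T : Triangle Db, T ∈ distTriang Db → P T.invRotate.obj₁ → P T.obj₁ → P T.obj₃ → P T.rotate.obj₃ → P T.obj₂)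
    (K : Db) : P K := by
  obtain ⟨b, a, -, hK⟩ := exists_amp K
  obtain ⟨n, hn⟩ : ∃ n : ℕ, a < b + n := ⟨(a - b + 1).toNat, by omega⟩
  induction n generalizing K b a with
  | zero => exact hzero K (hK.isZero (by simpa using hn))
  | succ n ih =>
    by_cases hab : a < b + n
    · exact ih K b a hK hab
    · obtain ⟨X, i, C, p, δ, hT, hC⟩ := exists_eff' hK (show b ≤ a by omega)
      refine hmid _ hT (ih _ _ _ (hC.shift (-1)) (by push_cast at hn ⊢; omega)) (hsg a X)
        (ih _ _ _ hC (by push_cast at hn ⊢; omega)) ?_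
      exact hiso (κ a (a - 1) (by omega) X) (hsg (a - 1) X)

/-- a functor agreeing on the abelian category with a fully faithful one is fully faithful -/
theorem full_faithful [F.Full] [F.Faithful] (η : DEquiv.singleB A ⋙ F ≅ DEquiv.singleB A ⋙ F') :
    F'.Full ∧ F'.Faithful := by
  haveI : F'.Additive := inferInstance
  have hz : ∀ K L : Db, IsZero K ∨ IsZero L → Groth.L29.FF.Bij F' K L := fun K L h => by
    rcases h with h | h
    · exact ⟨fun f g _ => h.eq_of_src _ _, fun φ => ⟨0, (F'.map_isZero h).eq_of_src _ _⟩⟩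
    · exact ⟨fun f g _ => h.eq_of_tgt _ _, fun φ => ⟨0, (F'.map_isZero h).eq_of_tgt _ _⟩⟩
  have h : ∀ K L : Db, Groth.L29.FF.Bij F' K L := fun K L =>
    induction_amp (P := fun K => Groth.L29.FF.Bij F' K L) (fun e h => h.of_iso e (Iso.refl _))
      (fun K h => hz K L (Or.inl h))
      (fun i X => induction_amp (P := fun L => Groth.L29.FF.Bij F' ((sg A i).obj X) L)
        (fun e h => h.of_iso (Iso.refl _) e) (fun L h => hz _ L (Or.inr h)) (fun j Y => bij_single η i j X Y)
        (bij_mid_right F' _) L)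
      (bij_mid_left F' L) K
  exact ⟨⟨fun {K L} φ => (h K L).2 φ⟩, ⟨fun {K L} _ _ e => (h K L).1 e⟩⟩

end Groth.L29.Sib
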