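import Groth.Agent.L29.Sib.Ext

/-!
A functor agreeing on an abelian category with enough negative objects with a fully faithful exact
functor is isomorphic to it.
-/

set_option autoImplicit false
set_option backward.defeqAttrib.useBackward true
set_option backward.isDefEq.respectTransparency false
set_option backward.isDefEq.respectTransparency.types false

universe w v u v' u'

open CategoryTheory CategoryTheory.Limits CategoryTheory.Pretriangulated DerivedCategory.TStructure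

namespace Groth.L29.Sib

variable {A : Type u} [Category.{v} A] [Abelian A] [HasDerivedCategory.{w} A]

local notation "Db" => DerivedCategory.Bounded A

variable {D : Type u'} [Category.{v'} D] [Preadditive D] [HasZeroObject D] [HasShift D ℤ]
  [∀ n : ℤ, (shiftFunctor D n).Additive] [Pretriangulated D]
  {F F' : DerivedCategory.Bounded A ⥤ D} [F.CommShift ℤ] [F'.CommShift ℤ]
  [F.IsTriangulated] [F'.IsTriangulated] (η : DEquiv.singleB A ⋙ F ≅ DEquiv.singleB A ⋙ F')

/-- identifications on the objects of amplitude `[b, a]` -/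
structure Fam (b a : ℤ) where
  c : ∀ K : Db, Amp K b a → (F.obj K ≅ F'.obj K)
  nat : ∀ {K L : Db} (hK : Amp K b a) (hL : Amp L b a) (f : K ⟶ L), Comm (c K hK) (c L hL) f
  sgl : ∀ {j : ℤ} (X : A) (h : Amp ((sg A j).obj X) b a), b ≤ j → j ≤ a → c _ h = ε η j X

variable {η}

/-- restriction to a smaller amplitude -/
def Fam.restrict {b a b' a' : ℤ} (c : Fam η b a) (hb : b ≤ b') (ha : a' ≤ a) : Fam η b' a' where
  c K h := c.c K (h.mono hb ha)
  nat hK hL f := c.nat (hK.mono hb ha) (hL.mono hb ha) f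
  sgl X h h1 h2 := c.sgl X (h.mono hb ha) (hb.trans h1) (h2.trans ha)

theorem comm_transport {K L : Db} {n : ℤ} {X Y : A} (e : K ≅ (sg A n).obj X) (e' : L ≅ (sg A n).obj Y) (f : K ⟶ L) :
    Comm (F.mapIso e ≪≫ ε η n X ≪≫ (F'.mapIso e).symm) (F.mapIso e' ≪≫ ε η n Y ≪≫ (F'.mapIso e').symm) f := by
  have h := comm_sg η (e.inv ≫ f ≫ e'.hom)
  dsimp [Comm] at h ⊢
  simp only [Functor.map_comp, Category.assoc] at h ⊢
  rw [← cancel_epi (F.map e.inv), ← cancel_mono (F'.map e'.hom)]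
  simp only [Category.assoc, ← F'.map_comp, Iso.inv_hom_id]
  rw [CategoryTheory.Functor.map_id, Category.comp_id, h, ← F.map_comp_assoc e.inv, Iso.inv_hom_id, F.map_id, Category.id_comp,
    F'.map_comp, F'.map_comp]

variable [F.Full] [F.Faithful]

/-- lifts to the top degree vanish when the top term has no map -/
theorem lift_zero (η : DEquiv.singleB A ⋙ F ≅ DEquiv.singleB A ⋙ F') {K : Db} {b c : ℤ} {X N : A}
    {i : (sg A c).obj X ⟶ K} (hi : Eff b c i) (hXN : ∀ g : X ⟶ N, g = 0)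
    (d : F.obj K ⟶ F'.obj ((sg A c).obj N)) : d = 0 := by
  obtain ⟨C, p, δ, hT, hC⟩ := hi
  obtain ⟨g, hg⟩ := F.map_surjective (F.map i ≫ d ≫ (ε η c N).inv)
  obtain ⟨g', rfl⟩ := (sg A c).map_surjective g
  rw [hXN g', Functor.map_zero, F.map_zero] at hg
  have h0 : F.map i ≫ d = 0 := by
    rw [← cancel_mono (ε η c N).inv, zero_comp, Category.assoc]
    exact hg.symm
  obtain ⟨k, hk⟩ := Triangle.yoneda_exact₂ _ (F.map_distinguished _ hT) d h0
  rw [hk, (Van.of_full η).zero hC (by omega) k, comp_zero]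

/-- two maps agreeing after the projection to the lower part agree -/
theorem eq_of_proj (η : DEquiv.singleB A ⋙ F ≅ DEquiv.singleB A ⋙ F') {K L C : Db} {b c : ℤ} {X N : A}
    {i₀ : (sg A c).obj X ⟶ K} (hi₀ : Eff b c i₀) (hXN : ∀ g : X ⟶ N, g = 0)
    {i : (sg A c).obj N ⟶ L} {p : L ⟶ C} {δ : C ⟶ ((sg A c).obj N)⟦(1 : ℤ)⟧}
    (hT : Triangle.mk i p δ ∈ distTriang Db) (x y : F.obj K ⟶ F'.obj L)
    (h : x ≫ F'.map p = y ≫ F'.map p) : x = y := by
  have h0 : (x - y) ≫ (F'.mapTriangle.obj (Triangle.mk i p δ)).mor₂ = 0 := by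
    change (x - y) ≫ F'.map p = 0
    rw [Preadditive.sub_comp, h, sub_self]
  obtain ⟨d, hd⟩ := Triangle.coyoneda_exact₂ _ (F'.map_distinguished _ hT) (x - y) h0
  rw [lift_zero η hi₀ hXN d, zero_comp] at hd
  exact sub_eq_zero.1 hd

/-- two families agree -/
theorem Fam.ext' (hneg : ∀ X : A, ∃ (N : A) (p : N ⟶ X), Epi p ∧ ∀ f : X ⟶ N, f = 0)
    {b a : ℤ} (hba : b ≤ a) (c c' : Fam η b a) (K : Db) (hK : Amp K b a) : c.c K hK = c'.c K hK := by
  obtain ⟨n, rfl⟩ : ∃ n : ℕ, a = b + n := ⟨(a - b).toNat, by omega⟩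
  clear hba
  induction n generalizing K with
  | zero =>
    obtain ⟨X, ⟨e⟩⟩ := exists_sg (show Amp K b b by simpa using hK)
    have hs : Amp ((sg A b).obj X) b (b + (0 : ℕ)) := amp_sg' le_rfl (by simp) X
    ext
    have h1 := c.nat hK hs e.hom
    have h2 := c'.nat hK hs e.hom
    rw [Comm, c.sgl X hs le_rfl (by simp)] at h1
    rw [Comm, c'.sgl X hs le_rfl (by simp), h1] at h2
    exact (cancel_mono (F'.map e.hom)).1 h2
  | succ n ih =>
    obtain ⟨X, i₀, hi₀⟩ := exists_eff' hK (by omega)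
    obtain ⟨N, π, hπ, hXN⟩ := hneg X
    obtain ⟨C, p, δ, hT, hC⟩ := hi₀.comp_epi hK (by omega) π
    have hC' : Amp C b (b + (n : ℕ)) := hC.mono le_rfl (by push_cast; omega)
    have e : (c.c C (hC.mono le_rfl (by omega))) = c'.c C (hC.mono le_rfl (by omega)) :=
      ih C (c.restrict (a' := b + (n : ℕ)) le_rfl (by push_cast; omega))
        (c'.restrict (a' := b + (n : ℕ)) le_rfl (by push_cast; omega)) hC'
    ext
    refine eq_of_proj η hi₀ hXN hT _ _ ?_
    rw [← c.nat hK (hC.mono le_rfl (by omega)) p, ← c'.nat hK (hC.mono le_rfl (by omega)) p, e]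

/-- what the identification at the next step satisfies -/
def Good {b a : ℤ} (c : Fam η b a) (K : Db) (φ : F.obj K ≅ F'.obj K) : Prop :=
  (∀ (C : Db) (hC : Amp C b a) (p : K ⟶ C), Comm φ (c.c C hC) p) ∧
    ∀ (Y : A) (f : K ⟶ (sg A (a + 1)).obj Y), Comm φ (ε η (a + 1) Y) f

theorem comm_δ {b a : ℤ} (c : Fam η b a) (hba : b ≤ a) {C : Db} (hC : Amp C b a) {N : A}
    (δ : C ⟶ ((sg A (a + 1)).obj N)⟦(1 : ℤ)⟧) : Comm (c.c C hC) (sh 1 (ε η (a + 1) N)) δ := by
  have h := c.nat hC (amp_sg' hba le_rfl N) (δ ≫ (κ (a + 1) a rfl N).inv)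
  rw [c.sgl N _ hba le_rfl] at h
  have e : δ = (δ ≫ (κ (a + 1) a rfl N).inv) ≫ (κ (a + 1) a rfl N).hom := by simp
  rw [e]
  exact Comm.comp h (comm_κ η (a + 1) a rfl N)

theorem exists_good (hneg : ∀ X : A, ∃ (N : A) (p : N ⟶ X), Epi p ∧ ∀ f : X ⟶ N, f = 0)
    {b a : ℤ} (c : Fam η b a) (hba : b ≤ a) {K : Db} (hK : Amp K b (a + 1)) : ∃ φ, Good c K φ := by
  obtain ⟨X, i₀, hi₀⟩ := exists_eff' hK (by omega)
  obtain ⟨N, π, hπ, hXN⟩ := hneg X
  have hi := hi₀.comp_epi hK (by omega) π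
  obtain ⟨C, p, δ, hT, hC⟩ := hi
  have hC' : Amp C b a := hC.mono le_rfl (by omega)
  obtain ⟨φ, hi', hp⟩ := exists_middle η hT hC _ (comm_δ c hba hC' δ)
  refine ⟨φ, fun C' hC'' p' => ?_, fun Y f => ?_⟩
  · obtain ⟨E, π', hπ', h0⟩ := exists_efface hC'' (show a < a + 1 by omega) ((sg A (a + 1)).map π ≫ i₀ ≫ p')
    have hi'' := hi₀.comp_epi hK (by omega) (π' ≫ π)
    obtain ⟨C₂, p₂, δ₂, hT₂, hC₂⟩ := hi''
    have hC₂' : Amp C₂ b a := hC₂.mono le_rfl (by omega)
    obtain ⟨ψ, -, hp₂⟩ := exists_middle η hT₂ hC₂ _ (comm_δ c hba hC₂' δ₂)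
    obtain ⟨g, hg⟩ := Triangle.yoneda_exact₂ _ hT₂ p (by
      change ((sg A (a + 1)).map (π' ≫ π) ≫ i₀) ≫ p = 0
      rw [Functor.map_comp, Category.assoc, Category.assoc]
      exact (congrArg (_ ≫ ·) ((Category.assoc _ _ _).symm.trans (comp_distTriang_mor_zero₁₂ _ hT))).trans comp_zero)
    obtain ⟨h, hh⟩ := Triangle.yoneda_exact₂ _ hT₂ p' (by
      change ((sg A (a + 1)).map (π' ≫ π) ≫ i₀) ≫ p' = 0
      rw [Functor.map_comp, Category.assoc, Category.assoc]
      exact h0)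
    have e : ψ = φ := by
      ext
      refine eq_of_proj η hi₀ hXN hT _ _ ?_
      have hg' : Comm ψ (c.c C hC') p := by
        rw [show p = p₂ ≫ g from hg]
        exact Comm.comp hp₂ (c.nat hC₂' hC' g)
      rw [← hg', hp]
    rw [show p' = p₂ ≫ h from hh, ← e]
    exact Comm.comp hp₂ (c.nat hC₂' hC'' h)
  · have h0 : F.map ((sg A (a + 1)).map π ≫ i₀) ≫ (F.map f ≫ (ε η (a + 1) Y).hom - φ.hom ≫ F'.map f) = 0 := by
      rw [Preadditive.comp_sub, sub_eq_zero, ← Category.assoc, ← F.map_comp, ← Category.assoc, hi',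
        Category.assoc]
      refine (comm_sg η _).trans ?_
      simp only [Functor.map_comp, Category.assoc]
    obtain ⟨k, hk⟩ := Triangle.yoneda_exact₂ _ (F.map_distinguished _ hT) _ h0
    rw [(Van.of_full η).zero hC (by omega) k, comp_zero] at hk
    exact sub_eq_zero.1 hk

theorem good_nat (hneg : ∀ X : A, ∃ (N : A) (p : N ⟶ X), Epi p ∧ ∀ f : X ⟶ N, f = 0)
    {b a : ℤ} (c : Fam η b a) (hba : b ≤ a) {K L : Db} (hK : Amp K b (a + 1)) (hL : Amp L b (a + 1))
    {φ : F.obj K ≅ F'.obj K} {ψ : F.obj L ≅ F'.obj L} (hφ : Good c K φ) (hψ : Good c L ψ) (f : K ⟶ L) :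
    Comm φ ψ f := by
  obtain ⟨X₁, i₁, hi₁⟩ := exists_eff' hK (by omega)
  obtain ⟨X₀, i₀, hi₀⟩ := exists_eff' hL (by omega)
  obtain ⟨N, π, hπ, hXN⟩ := hneg (X₀ ⊞ X₁)
  haveI : Epi (π ≫ biprod.fst) := epi_comp _ _
  obtain ⟨C, p, δ, hT, hC⟩ := hi₀.comp_epi hL (by omega) (π ≫ biprod.fst)
  have hC' : Amp C b a := hC.mono le_rfl (by omega)
  have hN : ∀ g : X₁ ⟶ N, g = 0 := fun g => by
    have h := congrArg (biprod.inr ≫ ·) (hXN (biprod.snd ≫ g))
    simpa using h
  refine eq_of_proj η hi₁ hN hT _ _ ?_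
  rw [Category.assoc, Category.assoc, ← hψ.1 C hC' p, ← F'.map_comp, ← hφ.1 C hC' (f ≫ p), F.map_comp,
    Category.assoc]

/-- families exist -/
theorem exists_fam (hneg : ∀ X : A, ∃ (N : A) (p : N ⟶ X), Epi p ∧ ∀ f : X ⟶ N, f = 0)
    {b a : ℤ} (hba : b ≤ a) : Nonempty (Fam η b a) := by
  obtain ⟨n, rfl⟩ : ∃ n : ℕ, a = b + n := ⟨(a - b).toNat, by omega⟩
  clear hba
  induction n with
  | zero =>
    simp only [Nat.cast_zero, add_zero]
    refine ⟨{ c := fun K h => F.mapIso (exists_sg h).choose_spec.some ≪≫ ε η b (exists_sg h).choose ≪≫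
                (F'.mapIso (exists_sg h).choose_spec.some).symm
              nat := fun hK hL f => comm_transport _ _ f
              sgl := fun {j} X h h1 h2 => ?_ }⟩
    obtain rfl : j = b := le_antisymm h2 h1
    ext
    have e1 := comm_transport (η := η) (exists_sg h).choose_spec.some (Iso.refl ((sg A j).obj X)) (𝟙 _)
    dsimp [Comm] at e1 ⊢
    simp only [CategoryTheory.Functor.map_id, Category.id_comp, Category.comp_id] at e1
    exact e1.symm
  | succ n ih =>
    obtain ⟨c⟩ := ih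
    push_cast
    rw [← add_assoc]
    have hb : b ≤ b + (n : ℤ) := by omega
    refine ⟨{ c := fun K h => (exists_good hneg c hb h).choose
              nat := fun hK hL f => good_nat hneg c hb hK hL (exists_good hneg c hb hK).choose_spec
                (exists_good hneg c hb hL).choose_spec f
              sgl := fun {j} X h h1 h2 => ?_ }⟩
    obtain ⟨g1, g2⟩ := (exists_good hneg c hb h).choose_spec
    ext
    rcases h2.lt_or_eq with h3 | h3
    · have hj : Amp ((sg A j).obj X) b (b + n) := amp_sg' h1 (by omega) X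
      have e := g1 _ hj (𝟙 _)
      rw [c.sgl X hj h1 (by omega)] at e
      simpa [Comm] using e.symm
    · subst h3
      have e := g2 X (𝟙 _)
      simpa [Comm] using e.symm

theorem nonempty_iso (hneg : ∀ X : A, ∃ (N : A) (p : N ⟶ X), Epi p ∧ ∀ f : X ⟶ N, f = 0)
    (η : DEquiv.singleB A ⋙ F ≅ DEquiv.singleB A ⋙ F') : Nonempty (F ≅ F') := by
  choose b a hba hK using fun K : Db => exists_amp K
  refine ⟨NatIso.ofComponents (fun K => (exists_fam (η := η) hneg (hba K)).some.c K (hK K)) fun {K L} f => ?_⟩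
  have hB : min (b K) (b L) ≤ max (a K) (a L) := (min_le_left _ _).trans ((hba K).trans (le_max_left _ _))
  let G := (exists_fam (η := η) hneg hB).some
  rw [Fam.ext' hneg (hba K) _ (G.restrict (min_le_left _ _) (le_max_left _ _)) K (hK K),
    Fam.ext' hneg (hba L) _ (G.restrict (min_le_right _ _) (le_max_right _ _)) L (hK L)]
  exact G.nat _ _ f

end Groth.L29.Sib
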