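import Groth.Agent.L20.ModStalk
import Groth.Agent.L00.StalkFunctor
import Mathlib.Topology.NoetherianSpace
import Mathlib.AlgebraicGeometry.Noetherian

/-!
Submodules of extensions by zero of the structure sheaf on a locally Noetherian scheme are generated by
finitely many sections: finiteness of morphisms out of them into stabilising families.
-/

set_option autoImplicit false
set_option backward.isDefEq.respectTransparency false
set_option linter.style.haveILetI false

universe u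

open CategoryTheory CategoryTheory.Limits AlgebraicGeometry TopologicalSpace Opposite

namespace Groth.L29.LocNoeth

open Groth.L18.Frame (rs)
open Groth.L20.ModStalk (germ_rs germ_smul)

variable {X : Scheme.{u}}

/-- the map of stalks -/
noncomputable abbrev st {M N : X.Modules} (φ : M ⟶ N) (y : X) :
    M.presheaf.stalk y →ₗ[X.presheaf.stalk y] N.presheaf.stalk y :=
  ((DerSch.stalkFunctor X y).map φ).hom

theorem st_germ {M N : X.Modules} (φ : M ⟶ N) (y : X) {V : X.Opens} (hy : y ∈ V) (s : Γ(M, V)) :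
    st φ y (M.presheaf.germ V y hy s) = N.presheaf.germ V y hy (φ.app V s) :=
  DerSch.stalkFunctor_map_germ y φ V hy s

theorem st_comp {M N P : X.Modules} (φ : M ⟶ N) (ψ : N ⟶ P) (y : X) (m : M.presheaf.stalk y) :
    st (φ ≫ ψ) y m = st ψ y (st φ y m) := by
  obtain ⟨V, hy, s, rfl⟩ := M.presheaf.exists_germ_eq (x := y) m
  rw [st_germ, st_germ, st_germ]
  rfl

theorem st_injective {M N : X.Modules} (φ : M ⟶ N) [Mono φ] (y : X) : Function.Injective (st φ y) :=
  (ModuleCat.mono_iff_injective _).1 (inferInstance : Mono ((Groth.L00.Stk.F X y).map φ))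

theorem hom_ext_st {M N : X.Modules} {φ ψ : M ⟶ N} (h : ∀ y m, st φ y m = st ψ y m) : φ = ψ :=
  Groth.L21.Mod.hom_ext_stalk fun y => by
    ext m
    exact h y m

theorem exists_nhd (M : X.Modules) {V V' : X.Opens} {y : X} (hy : y ∈ V) (hy' : y ∈ V') (a : Γ(M, V))
    (b : Γ(M, V')) (h : M.presheaf.germ V y hy a = M.presheaf.germ V' y hy' b) :
    ∃ W : X.Opens, y ∈ W ∧ ∀ (z : X) (_ : z ∈ W) (hz : z ∈ V) (hz' : z ∈ V'),
      M.presheaf.germ V z hz a = M.presheaf.germ V' z hz' b := by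
  obtain ⟨W, hyW, i, i', hW⟩ := TopCat.Presheaf.germ_eq M.presheaf y hy hy' a b h
  refine ⟨W, hyW, fun z hz h1 h2 => ?_⟩
  rw [← TopCat.Presheaf.germ_res_apply M.presheaf i z hz a, ← TopCat.Presheaf.germ_res_apply M.presheaf i' z hz b]
  exact congrArg _ hW

section Stable

variable {M K L : X.Modules} (i : K ⟶ M) [Mono i] {U : X.Opens} (e : Γ(M, U)) (f : K ⟶ L)
  {ι : Type*} [Preorder ι] [IsDirectedOrder ι] [Nonempty ι] {Q : ι → X.Modules} (Φ : ∀ F, L ⟶ Q F)

/-- the ideal of functions whose multiple of the generator lies in the submodule at a point -/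
noncomputable def conductor {x : X} (hx : x ∈ U) : Ideal Γ(X, U) where
  carrier := {r | ∃ k : K.presheaf.stalk x, st i x k = M.presheaf.germ U x hx (r • e)}
  zero_mem' := ⟨0, by rw [map_zero, zero_smul, map_zero]⟩
  add_mem' := by
    rintro a b ⟨k, hk⟩ ⟨l, hl⟩
    exact ⟨k + l, by rw [map_add, hk, hl, add_smul, map_add]⟩
  smul_mem' := by
    rintro c r ⟨k, hk⟩
    exact ⟨X.presheaf.germ U x hx c • k, by rw [map_smul, hk, smul_eq_mul, mul_smul, germ_smul M hx c (r • e)]⟩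

/-- killed by the family from some stage on, on a subset -/
def Killed (S : Set X) : Prop :=
  ∃ F₀ : ι, ∀ F, F₀ ≤ F → ∀ y ∈ S, ∀ k : K.presheaf.stalk y, st (Φ F) y (st f y k) = 0

variable {i e f Φ}

omit [IsDirectedOrder ι] [Nonempty ι] in
theorem killed_mono {S T : Set X} (h : S ⊆ T) (hT : Killed f Φ T) : Killed f Φ S :=
  let ⟨F, hF⟩ := hT; ⟨F, fun G hG y hy => hF G hG y (h hy)⟩

omit [Nonempty ι] in
theorem killed_union {S T : Set X} (hS : Killed f Φ S) (hT : Killed f Φ T) : Killed f Φ (S ∪ T) := by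
  obtain ⟨F, hF⟩ := hS
  obtain ⟨G, hG⟩ := hT
  obtain ⟨H, hFH, hGH⟩ := exists_ge_ge F G
  exact ⟨H, fun H' hH y hy => hy.elim (hF H' (hFH.trans hH) y) (hG H' (hGH.trans hH) y)⟩

theorem exists_killed_nhd (i : K ⟶ M) [Mono i] (hU : IsAffineOpen U) [IsNoetherianRing Γ(X, U)]
    (he : ∀ (y : X) (hy : y ∈ U) (m : M.presheaf.stalk y), ∃ c : X.presheaf.stalk y, c • M.presheaf.germ U y hy e = m)
    (hq : ∀ F F', F ≤ F' → ∀ (y : X) (l : L.presheaf.stalk y), st (Φ F) y l = 0 → st (Φ F') y l = 0)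
    (hqx : ∀ (y : X) (l : L.presheaf.stalk y), ∃ F, st (Φ F) y l = 0) {x : X} (hx : x ∈ U) :
    ∃ W : X.Opens, x ∈ W ∧ Killed f Φ {y | y ∈ W ∧ y ∈ U ∧ x ⤳ y} := by
  classical
  obtain ⟨s, hs⟩ := (IsNoetherian.noetherian (conductor i e hx) : (conductor i e hx).FG)
  choose k hk using fun q : s => (show q.1 ∈ conductor i e hx from hs ▸ Submodule.subset_span q.2)
  choose V hV σ hσ using fun q : s => K.presheaf.exists_germ_eq (x := x) (k q)
  choose Fq hFq using fun q : s => hqx x (st f x (k q))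
  have h1 : ∀ q : s, ∃ W : X.Opens, x ∈ W ∧ W ≤ V q ∧ W ≤ U ∧ ∀ (z : X) (hz : z ∈ V q) (hzU : z ∈ U), z ∈ W →
      st i z (K.presheaf.germ (V q) z hz (σ q)) = M.presheaf.germ U z hzU (q.1 • e) ∧
      st (Φ (Fq q)) z (st f z (K.presheaf.germ (V q) z hz (σ q))) = 0 := by
    intro q
    have a1 := hk q
    rw [← hσ q, st_germ] at a1
    obtain ⟨W1, hW1, h1⟩ := exists_nhd M (hV q) hx _ _ a1
    have a2 := hFq q
    rw [← hσ q, st_germ, st_germ] at a2
    rw [← map_zero ((Q (Fq q)).presheaf.germ (V q) x (hV q)).hom] at a2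
    obtain ⟨W2, hW2, h2⟩ := exists_nhd (Q (Fq q)) (hV q) (hV q) _ _ a2
    refine ⟨W1 ⊓ W2 ⊓ V q ⊓ U, ⟨⟨⟨hW1, hW2⟩, hV q⟩, hx⟩, inf_le_left.trans inf_le_right, inf_le_right,
      fun z hz hzU hzW => ⟨?_, ?_⟩⟩
    · rw [st_germ]
      exact h1 z hzW.1.1.1 hz hzU
    · rw [st_germ, st_germ]
      exact (h2 z hzW.1.1.2 hz hz).trans (map_zero _)
  choose W hxW hWV hWU hW using h1
  obtain ⟨W', hW'⟩ : ∃ W' : X.Opens, x ∈ W' ∧ ∀ q, W' ≤ W q :=
    ⟨⟨⋂ q, (W q : Set X), isOpen_iInter_of_finite fun q => (W q).2⟩, Set.mem_iInter.2 hxW,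
      fun q _ hz => Set.mem_iInter.1 hz q⟩
  obtain ⟨F₀, hF₀⟩ := Finset.exists_le ((Finset.univ : Finset s).image Fq)
  refine ⟨W', hW'.1, F₀, fun F hF y hy k' => ?_⟩
  obtain ⟨hyW, hyU, hxy⟩ := hy
  letI := X.presheaf.algebra_section_stalk ⟨y, hyU⟩
  haveI := hU.isLocalization_stalk ⟨y, hyU⟩
  obtain ⟨c, hc⟩ := he y hyU (st i y k')
  obtain ⟨⟨r, d⟩, hrd⟩ := IsLocalization.surj (hU.primeIdealOf ⟨y, hyU⟩).asIdeal.primeCompl c
  change c * X.presheaf.germ U y hyU d.1 = X.presheaf.germ U y hyU r at hrd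
  have hd : IsUnit (X.presheaf.germ U y hyU d.1) := IsLocalization.map_units (X.presheaf.stalk y) d
  have hk' : st i y (X.presheaf.germ U y hyU d.1 • k') = M.presheaf.germ U y hyU (r • e) := by
    rw [map_smul, ← hc, smul_smul, mul_comm, hrd, germ_smul M hyU]
  -- representatives spread to the generisation
  obtain ⟨N, hyN, κ, hκ⟩ := K.presheaf.exists_germ_eq (x := y) (X.presheaf.germ U y hyU d.1 • k')
  have a3 := hk'
  rw [← hκ, st_germ] at a3
  obtain ⟨N', hyN', hN'⟩ := exists_nhd M hyN hyU _ _ a3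
  have hxN : x ∈ N := hxy.mem_open N.2 hyN
  have hr : r ∈ conductor i e hx := ⟨K.presheaf.germ N x hxN κ, by
    rw [st_germ]; exact hN' x (hxy.mem_open N'.2 hyN') hxN hx⟩
  rw [← hs, Submodule.mem_span_finset] at hr
  obtain ⟨a, -, ha⟩ := hr
  let σy : s → K.presheaf.stalk y := fun q => K.presheaf.germ (V q) y (hWV q (hW'.2 q hyW)) (σ q)
  have hkey : X.presheaf.germ U y hyU d.1 • k' = ∑ q : s, X.presheaf.germ U y hyU (a q.1) • σy q := by
    apply st_injective i y
    rw [hk', map_sum, ← ha, ← Finset.sum_coe_sort s, Finset.sum_smul, map_sum]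
    refine Finset.sum_congr rfl fun q _ => ?_
    rw [smul_eq_mul, mul_smul, germ_smul M hyU (a q.1) (q.1 • e), map_smul (st i y), (hW q y _ hyU (hW'.2 q hyW)).1]
  apply hd.smul_left_cancel.1
  rw [smul_zero, ← map_smul, ← map_smul, hkey, map_sum, map_sum]
  refine Finset.sum_eq_zero fun q _ => ?_
  rw [map_smul, map_smul]
  convert smul_zero (X.presheaf.germ U y hyU (a q.1))
  exact hq _ _ ((hF₀ _ (Finset.mem_image_of_mem _ (Finset.mem_univ q))).trans hF) y _
    (hW q y (hWV q (hW'.2 q hyW)) hyU (hW'.2 q hyW)).2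

theorem exists_killed (hU : IsAffineOpen U) [IsNoetherianRing Γ(X, U)]
    (he : ∀ (y : X) (hy : y ∈ U) (m : M.presheaf.stalk y), ∃ c : X.presheaf.stalk y, c • M.presheaf.germ U y hy e = m)
    (hM : ∀ y : X, y ∉ U → Subsingleton (M.presheaf.stalk y))
    (hq : ∀ F F', F ≤ F' → ∀ (y : X) (l : L.presheaf.stalk y), st (Φ F) y l = 0 → st (Φ F') y l = 0)
    (hqx : ∀ (y : X) (l : L.presheaf.stalk y), ∃ F, st (Φ F) y l = 0)
    (i : K ⟶ M) [Mono i] : ∃ F, f ≫ Φ F = 0 := by
  classical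
  haveI : NoetherianSpace U := noetherianSpace_of_isAffineOpen U hU
  have key : ∀ Z : Closeds U, Killed f Φ ((fun z : U => z.1) '' (Z : Set U)) := by
    intro Z
    induction Z using WellFoundedLT.induction with
    | _ Z ih =>
      by_cases hZ : IsIrreducible (Z : Set U)
      · haveI : QuasiSober U := inferInstanceAs (QuasiSober (U : Scheme.{u}))
        obtain ⟨x, hx⟩ := QuasiSober.sober hZ Z.isClosed
        obtain ⟨W, hxW, hW⟩ := exists_killed_nhd (f := f) i hU he hq hqx x.2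
        let Z' : Closeds U := Z ⊓ ⟨{z | z.1 ∉ W}, (W.2.preimage continuous_subtype_val).isClosed_compl⟩
        have hlt : Z' < Z := lt_of_le_of_ne inf_le_left fun h =>
          ((h ▸ hx.mem : x ∈ (Z' : Set U))).2 hxW
        refine killed_mono ?_ (killed_union hW (ih Z' hlt))
        rintro _ ⟨z, hz, rfl⟩
        by_cases hzW : z.1 ∈ W
        · exact Or.inl ⟨hzW, z.2, (hx.specializes hz).map continuous_subtype_val⟩
        · exact Or.inr ⟨z, ⟨hz, hzW⟩, rfl⟩
      · by_cases hne : (Z : Set U).Nonempty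
        · obtain ⟨A, B, hA, hB, hsub, hnA, hnB⟩ : ∃ A B : Set U, IsClosed A ∧ IsClosed B ∧ (Z : Set U) ⊆ A ∪ B ∧
              ¬ (Z : Set U) ⊆ A ∧ ¬ (Z : Set U) ⊆ B := by
            by_contra h
            push Not at h
            refine hZ ⟨hne, isPreirreducible_iff_isClosed_union_isClosed.2 fun A B hA hB hsub => ?_⟩
            exact or_iff_not_imp_left.2 fun hn => h A B hA hB hsub hn
          refine killed_mono ?_ (killed_union
            (ih (Z ⊓ ⟨A, hA⟩) (lt_of_le_of_ne inf_le_left fun h => hnA fun z hz => ((SetLike.ext_iff.1 h z).2 hz).2))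
            (ih (Z ⊓ ⟨B, hB⟩) (lt_of_le_of_ne inf_le_left fun h => hnB fun z hz => ((SetLike.ext_iff.1 h z).2 hz).2)))
          rintro _ ⟨z, hz, rfl⟩
          exact (hsub hz).elim (fun h => Or.inl ⟨z, ⟨hz, h⟩, rfl⟩) (fun h => Or.inr ⟨z, ⟨hz, h⟩, rfl⟩)
        · refine ⟨Classical.arbitrary ι, fun F _ y hy => absurd ?_ hne⟩
          obtain ⟨z, hz, -⟩ := hy
          exact ⟨z, hz⟩
  obtain ⟨F, hF⟩ := key ⊤
  refine ⟨F, Groth.L21.Mod.hom_ext_stalk fun y => ?_⟩
  ext k
  rw [Functor.map_zero]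
  change st (f ≫ Φ F) y k = 0
  rw [st_comp]
  by_cases hy : y ∈ U
  · exact hF F le_rfl y ⟨⟨y, hy⟩, trivial, rfl⟩ k
  · haveI := hM y hy
    rw [st_injective i y (Subsingleton.elim (st i y k) (st i y 0)), map_zero, map_zero]

end Stable

/-- A morphism out of a submodule is fixed by some member of a stabilising family of endomorphisms. -/
theorem exists_fixed {M K L : X.Modules} {U : X.Opens} {e : Γ(M, U)} {f : K ⟶ L} {ι : Type*}
    {E : Finset ι → (L ⟶ L)} (hU : IsAffineOpen U) [IsNoetherianRing Γ(X, U)]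
    (he : ∀ (y : X) (hy : y ∈ U) (m : M.presheaf.stalk y), ∃ c : X.presheaf.stalk y, c • M.presheaf.germ U y hy e = m)
    (hM : ∀ y : X, y ∉ U → Subsingleton (M.presheaf.stalk y))
    (hE : ∀ F F', F ⊆ F' → E F ≫ E F' = E F)
    (hEx : ∀ (y : X) (l : L.presheaf.stalk y), ∃ F, st (E F) y l = l)
    (i : K ⟶ M) [Mono i] : ∃ F, f ≫ E F = f := by
  classical
  have hsub : ∀ F (y : X) (l : L.presheaf.stalk y), st (E F - 𝟙 L) y l = st (E F) y l - l := by
    intro F y l
    obtain ⟨V, hy, s, rfl⟩ := L.presheaf.exists_germ_eq (x := y) l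
    rw [st_germ, st_germ, ← map_sub]
    rfl
  obtain ⟨F, hF⟩ := exists_killed (f := f) (Φ := fun F => E F - 𝟙 L) hU he hM (fun F F' h y l hl => by
      rw [hsub, sub_eq_zero] at hl ⊢
      rw [← hl, ← st_comp, hE F F' h])
    (fun y l => (hEx y l).imp fun F hF => by rw [hsub, hF, sub_self]) i
  refine ⟨F, ?_⟩
  rwa [Preadditive.comp_sub, Category.comp_id, sub_eq_zero] at hF

end Groth.L29.LocNoeth
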