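import Mathlib.CategoryTheory.Abelian.SerreClass.Basic
import Mathlib.Algebra.Homology.Refinements
import Mathlib.Algebra.Homology.Embedding.HomEquiv
import Mathlib.Algebra.Homology.Embedding.ExtendHomology
import Mathlib.Algebra.Homology.Embedding.CochainComplex
import Mathlib.Algebra.Homology.QuasiIso

/-!
Bounded above complexes with cohomology in a Serre class receive quasi-isomorphisms from complexes with
terms in the class, when subobjects in the class can be lifted along epimorphisms.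
-/

set_option autoImplicit false
set_option backward.defeqAttrib.useBackward true
set_option backward.isDefEq.respectTransparency false
set_option backward.isDefEq.respectTransparency.types false

universe v u

open CategoryTheory CategoryTheory.Limits

namespace Groth.L29.SerreRes

variable {A : Type u} [Category.{v} A] [Abelian A] (P : ObjectProperty A)

/-- subobjects in the class lift along epimorphisms -/
def Lifts : Prop :=
  ∀ (X Y : A) (π : X ⟶ Y), Epi π → P Y → ∃ (X' : A) (i : X' ⟶ X), Mono i ∧ P X' ∧ Epi (i ≫ π)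

/-- the weak form of `Lifts` -/
def LiftsWeak : Prop :=
  ∀ (X Y : A) (π : X ⟶ Y), Epi π → P Y → ∃ (X' : A) (i : X' ⟶ X), P X' ∧ Epi (i ≫ π)

/-- closure under kernels, biproducts, isomorphisms and zero -/
structure Closed : Prop where
  iso : ∀ {X Y : A}, (X ≅ Y) → P X → P Y
  zero : ∀ {X : A}, IsZero X → P X
  biprod : ∀ {X Y : A}, P X → P Y → P (X ⊞ Y)
  ker : ∀ {X Y : A} (f : X ⟶ Y), P X → P Y → P (kernel f)

section Down

variable (M : ChainComplex A ℕ)

/-- the degree `k` part of a resolution -/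
structure Stage (k : ℕ) where
  X : A
  hX : P X
  f : X ⟶ M.X k
  K : A
  ι : K ⟶ X
  hι : Mono ι
  hK : P K
  hcyc : ∀ l : ℕ, ι ≫ f ≫ M.d k l = 0
  hit : ∀ ⦃T : A⦄ (z : T ⟶ M.X k), (∀ l : ℕ, z ≫ M.d k l = 0) →
    ∃ (T' : A) (e : T' ⟶ T) (_ : Epi e) (x : T' ⟶ K) (w : T' ⟶ M.X (k + 1)),
      e ≫ z = x ≫ ι ≫ f + w ≫ M.d (k + 1) k

variable {P M}

theorem exists_hit (hl : LiftsWeak P) (hM : ∀ k, P (M.homology k)) (k : ℕ) :
    ∃ (X : A) (g : X ⟶ M.X k), P X ∧ (∀ l, g ≫ M.d k l = 0) ∧
      ∀ ⦃T : A⦄ (z : T ⟶ M.X k), (∀ l : ℕ, z ≫ M.d k l = 0) →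
        ∃ (T' : A) (e : T' ⟶ T) (_ : Epi e) (x : T' ⟶ X) (w : T' ⟶ M.X (k + 1)),
          e ≫ z = x ≫ g + w ≫ M.d (k + 1) k := by
  obtain ⟨X, i, hX, hi⟩ := hl _ _ (M.homologyπ k) inferInstance (hM k)
  refine ⟨X, i ≫ M.iCycles k, hX, fun l => by simp, fun T z hz => ?_⟩
  let z' := M.liftCycles z _ rfl (hz _)
  obtain ⟨T₁, e₁, he₁, x, hx⟩ := surjective_up_to_refinements_of_epi (i ≫ M.homologyπ k) (z' ≫ M.homologyπ k)
  have h : (e₁ ≫ z') ≫ M.homologyπ k = (x ≫ i) ≫ M.homologyπ k := by
    simpa only [Category.assoc] using hx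
  obtain ⟨T₂, e₂, he₂, w, hw⟩ := (M.comp_homologyπ_eq_iff_up_to_refinements (k + 1) k (by simp) _ _).1 h
  refine ⟨T₂, e₂ ≫ e₁, epi_comp _ _, e₂ ≫ x, w, ?_⟩
  have := congrArg (· ≫ M.iCycles k) hw
  simp only [Category.assoc, Preadditive.add_comp, HomologicalComplex.toCycles_i] at this
  rw [show z' ≫ M.iCycles k = z from M.liftCycles_i z _ rfl (hz _)] at this
  simpa only [Category.assoc] using this

theorem exists_base (hl : LiftsWeak P) (hM : ∀ k, P (M.homology k)) : Nonempty {S : Stage P M 0 // IsIso S.ι} := by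
  obtain ⟨X, g, hX, hg, hit⟩ := exists_hit hl hM 0
  exact ⟨⟨⟨X, hX, g, X, 𝟙 X, inferInstance, hX, fun l => by simp [hg], fun T z hz => by
    obtain ⟨T', e, he, x, w, h⟩ := hit z hz
    exact ⟨T', e, he, x, w, by simpa using h⟩⟩, (inferInstance : IsIso (𝟙 X))⟩⟩

/-- a stage lying over the previous one -/
structure Next {k : ℕ} (S : Stage P M k) where
  S' : Stage P M (k + 1)
  δ : S'.X ⟶ S.K
  comm : δ ≫ S.ι ≫ S.f = S'.f ≫ M.d (k + 1) k
  ker : S'.ι ≫ δ = 0
  ker' : ∀ ⦃T : A⦄ (x : T ⟶ S'.X), x ≫ δ = 0 → ∃ y : T ⟶ S'.K, y ≫ S'.ι = x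
  inj : ∀ ⦃T : A⦄ (l : T ⟶ S.K) (y : T ⟶ M.X (k + 1)), l ≫ S.ι ≫ S.f = y ≫ M.d (k + 1) k →
    ∃ (T' : A) (e : T' ⟶ T) (_ : Epi e) (x : T' ⟶ S'.X), e ≫ l = x ≫ δ

theorem exists_next (hc : Closed P) (hl : LiftsWeak P) (hM : ∀ k, P (M.homology k)) {k : ℕ} (S : Stage P M k) :
    Nonempty (Next S) := by
  let γ : S.K ⟶ M.homology k := M.liftCycles (S.ι ≫ S.f) _ rfl (by simpa using S.hcyc _) ≫ M.homologyπ k
  let q := pullback.fst (S.ι ≫ S.f) (M.d (k + 1) k)
  have hqγ : q ≫ γ = 0 := by
    simp only [γ, HomologicalComplex.comp_liftCycles_assoc]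
    exact M.liftCycles_homologyπ_eq_zero_of_boundary _ _ rfl (pullback.snd _ _) pullback.condition
  let q' : pullback (S.ι ≫ S.f) (M.d (k + 1) k) ⟶ kernel γ := kernel.lift γ q hqγ
  haveI : Epi q' := by
    rw [epi_iff_surjective_up_to_refinements]
    intro T z
    have h0 : ((z ≫ kernel.ι γ) ≫ M.liftCycles (S.ι ≫ S.f) _ rfl (by simpa using S.hcyc _)) ≫ M.homologyπ k =
        0 ≫ M.homologyπ k := by
      simp only [Category.assoc, zero_comp]
      exact (congrArg (z ≫ ·) (kernel.condition γ)).trans comp_zero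
    obtain ⟨T', e, he, w, hw⟩ := (M.comp_homologyπ_eq_iff_up_to_refinements (k + 1) k (by simp) _ _).1 h0
    have hw' := congrArg (· ≫ M.iCycles k) hw
    simp only [Category.assoc, Preadditive.add_comp, HomologicalComplex.toCycles_i, HomologicalComplex.liftCycles_i,
      comp_zero, zero_comp, zero_add] at hw'
    refine ⟨T', e, he, pullback.lift (e ≫ z ≫ kernel.ι γ) w (by simpa using hw'), ?_⟩
    rw [← cancel_mono (kernel.ι γ)]
    simp [q', q]
  obtain ⟨X₁, i, hX₁, hi⟩ := hl _ _ q' inferInstance (hc.ker γ S.hK (hM k))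
  obtain ⟨X₂, g, hX₂, hg, hit⟩ := exists_hit hl hM (k + 1)
  let X := X₁ ⊞ X₂
  have hX : P X := hc.biprod hX₁ hX₂
  let f : X ⟶ M.X (k + 1) := biprod.desc (i ≫ pullback.snd _ _) g
  let δ : X ⟶ S.K := biprod.desc (i ≫ q) 0
  have hcomm : δ ≫ S.ι ≫ S.f = f ≫ M.d (k + 1) k := by
    refine biprod.hom_ext' _ _ ?_ ?_
    · simp [δ, f, q, pullback.condition]
    · simp [δ, f, hg]
  refine ⟨{ S' := ⟨X, hX, f, kernel δ, kernel.ι δ, inferInstance, hc.ker δ hX S.hK, fun l => ?_, fun T z hz => ?_⟩,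
            δ := δ, comm := hcomm, ker := kernel.condition δ,
            ker' := fun T x hx => ⟨kernel.lift δ x hx, kernel.lift_ι δ x hx⟩, inj := fun T l y h => ?_ }⟩
  · by_cases hl : (ComplexShape.down ℕ).Rel (k + 1) l
    · obtain rfl : l = k := by simp at hl; omega
      rw [← hcomm, ← Category.assoc, kernel.condition, zero_comp]
    · rw [M.shape _ _ hl, comp_zero, comp_zero]
  · obtain ⟨T', e, he, x, w, h⟩ := hit z hz
    refine ⟨T', e, he, kernel.lift δ (x ≫ biprod.inr) (by simp [δ]), w, ?_⟩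
    rw [kernel.lift_ι_assoc, h]
    simp [f]
  · let t : T ⟶ pullback (S.ι ≫ S.f) (M.d (k + 1) k) := pullback.lift l y h
    obtain ⟨T', e, he, x, hx⟩ := surjective_up_to_refinements_of_epi (i ≫ q') (t ≫ q')
    refine ⟨T', e, he, x ≫ biprod.inl, ?_⟩
    have h' := congrArg (· ≫ kernel.ι γ) hx
    simp only [Category.assoc, q', kernel.lift_ι] at h'
    rw [show t ≫ q = l from pullback.lift_fst _ _ _] at h'
    rw [h']
    simp [δ]

variable (hc : Closed P) (hl : LiftsWeak P) (hM : ∀ k, P (M.homology k))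

/-- all stages -/
noncomputable def stage : ∀ k, Stage P M k
  | 0 => (exists_base hl hM).some.1
  | k + 1 => (exists_next hc hl hM (stage k)).some.S'

/-- the step -/
noncomputable def step (k : ℕ) : Next (stage hc hl hM k) := (exists_next hc hl hM (stage hc hl hM k)).some

/-- the differential -/
noncomputable def del (k : ℕ) : (stage hc hl hM (k + 1)).X ⟶ (stage hc hl hM k).X :=
  (step hc hl hM k).δ ≫ (stage hc hl hM k).ι

theorem del_del (k : ℕ) : del hc hl hM (k + 1) ≫ del hc hl hM k = 0 := by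
  change (_ ≫ (step hc hl hM k).S'.ι) ≫ (step hc hl hM k).δ ≫ _ = 0
  rw [Category.assoc, ← Category.assoc (step hc hl hM k).S'.ι, (step hc hl hM k).ker, zero_comp, comp_zero]

/-- the resolution -/
noncomputable def res : ChainComplex A ℕ :=
  ChainComplex.of (fun k => (stage hc hl hM k).X) (del hc hl hM) (del_del hc hl hM)

theorem res_d (k : ℕ) : (res hc hl hM).d (k + 1) k = del hc hl hM k := ChainComplex.of_d (fun k => (stage hc hl hM k).X) (del hc hl hM) k

/-- the augmentation -/
noncomputable def resπ : res hc hl hM ⟶ M where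
  f k := (stage hc hl hM k).f
  comm' i j hij := by
    obtain rfl : j + 1 = i := hij
    rw [res_d]
    change (step hc hl hM j).S'.f ≫ M.d (j + 1) j = _
    rw [del, Category.assoc, (step hc hl hM j).comm]

theorem class_res (k : ℕ) : P ((res hc hl hM).X k) := (stage hc hl hM k).hX

theorem cycle_fac {k : ℕ} {T : A} (x : T ⟶ (stage hc hl hM k).X) (hx : ∀ l, x ≫ (res hc hl hM).d k l = 0) :
    ∃ (T' : A) (e : T' ⟶ T) (_ : Epi e) (y : T' ⟶ (stage hc hl hM k).K) (w : T' ⟶ M.X (k + 1)),
      e ≫ x ≫ (stage hc hl hM k).f = y ≫ (stage hc hl hM k).ι ≫ (stage hc hl hM k).f + w ≫ M.d (k + 1) k := by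
  refine (stage hc hl hM k).hit _ fun l => ?_
  by_cases h : (ComplexShape.down ℕ).Rel k l
  · rw [Category.assoc, show (stage hc hl hM k).f = (resπ hc hl hM).f k from rfl, (resπ hc hl hM).comm, reassoc_of% (hx l),
      zero_comp]
  · rw [M.shape _ _ h, comp_zero]

theorem quasiIso_resπ : QuasiIso (resπ hc hl hM) := by
  rw [quasiIso_iff]
  intro k
  rw [quasiIsoAt_iff_isIso_homologyMap]
  have hi : (ComplexShape.down ℕ).prev k = k + 1 := ChainComplex.prev ℕ k
  haveI : Epi (HomologicalComplex.homologyMap (resπ hc hl hM) k) := by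
    rw [HomologicalComplex.epi_homologyMap_iff_up_to_refinements _ (k + 1) k _ hi rfl]
    intro T z hz
    obtain ⟨T', e, he, x, w, h⟩ := (stage hc hl hM k).hit z (fun l => by
      by_cases hl' : (ComplexShape.down ℕ).Rel k l
      · rw [← (ComplexShape.down ℕ).next_eq' hl']; exact hz
      · rw [M.shape _ _ hl', comp_zero])
    refine ⟨T', e, he, x ≫ (stage hc hl hM k).ι, ?_, w, ?_⟩
    · cases k with
      | zero => simp [(res hc hl hM).shape 0 _ (show ¬ (ComplexShape.down ℕ).Rel 0 _ by simp)]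
      | succ j =>
        rw [show (ComplexShape.down ℕ).next (j + 1) = j from (ComplexShape.down ℕ).next_eq' rfl, res_d, del]
        change (x ≫ (step hc hl hM j).S'.ι) ≫ (step hc hl hM j).δ ≫ (stage hc hl hM j).ι = 0
        rw [Category.assoc, ← Category.assoc (step hc hl hM j).S'.ι, (step hc hl hM j).ker, zero_comp, comp_zero]
    · rw [h, Category.assoc]
      rfl
  haveI : Mono (HomologicalComplex.homologyMap (resπ hc hl hM) k) := by
    rw [HomologicalComplex.mono_homologyMap_iff_up_to_refinements _ (k + 1) k _ hi rfl]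
    intro T x hx y hy
    obtain ⟨y', hy'⟩ : ∃ y' : T ⟶ (stage hc hl hM k).K, y' ≫ (stage hc hl hM k).ι = x := by
      cases k with
      | zero =>
        haveI : IsIso (stage hc hl hM 0).ι := (exists_base hl hM).some.2
        exact ⟨x ≫ inv (stage hc hl hM 0).ι, by simp⟩
      | succ j =>
        rw [show (ComplexShape.down ℕ).next (j + 1) = j from (ComplexShape.down ℕ).next_eq' rfl, res_d, del] at hx
        haveI := (stage hc hl hM j).hι
        have hx' : (x ≫ (step hc hl hM j).δ) ≫ (stage hc hl hM j).ι = 0 := (Category.assoc _ _ _).trans hx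
        exact (step hc hl hM j).ker' x (zero_of_comp_mono _ hx')
    obtain ⟨T', e, he, z, hz⟩ := (step hc hl hM k).inj y' y (by
      rw [← Category.assoc, hy']
      exact hy)
    refine ⟨T', e, he, z, ?_⟩
    rw [res_d, del, ← hy', reassoc_of% hz]
  exact isIso_of_mono_of_epi _

end Down

variable {P} in
/-- a bounded above complex with cohomology in the class receives a quasi-isomorphism from one with terms in it -/
theorem exists_res_weak (hc : Closed P) (hl : LiftsWeak P) (M : CochainComplex A ℤ) (b : ℤ) [M.IsStrictlyLE b]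
    (hM : ∀ n, P (M.homology n)) :
    ∃ (L : CochainComplex A ℤ) (π : L ⟶ M), L.IsStrictlyLE b ∧ (∀ n, P (L.X n)) ∧ QuasiIso π := by
  let e := ComplexShape.embeddingUpIntLE b
  have he : e.HasLift (𝟙 (M.restriction e)) := fun j hj i' hij' => by
    refine (IsZero.eq_of_src ?_ _ _)
    exact M.isZero_X_of_isStrictlySupported e i' (hj.notMem hij')
  let c := e.liftExtend (𝟙 (M.restriction e)) he
  have hci : ∀ n, IsIso (c.f n) := fun n => by
    by_cases hn : ∃ i, e.f i = n
    · obtain ⟨i, hi⟩ := hn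
      rw [e.isIso_liftExtend_f_iff _ _ hi]
      exact inferInstanceAs (IsIso (𝟙 _))
    · exact ⟨0, (M.isZero_X_of_isStrictlySupported e n (by simpa using hn)).eq_of_src _ _,
        (HomologicalComplex.isZero_extend_X _ e n (by simpa using hn)).eq_of_src _ _⟩
  haveI : IsIso c := HomologicalComplex.Hom.isIso_of_components c
  haveI : ∀ n, IsIso (HomologicalComplex.homologyMap c n) := fun n => inferInstance
  have hM' : ∀ k, P ((M.restriction e).homology k) := fun k =>
    hc.iso ((asIso (HomologicalComplex.homologyMap c (e.f k))) ≪≫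
      (M.restriction e).extendHomologyIso e rfl) (hM _)
  haveI := quasiIso_resπ hc hl hM'
  refine ⟨(res hc hl hM').extend e, HomologicalComplex.extendMap (resπ hc hl hM') e ≫ inv c,
    (CochainComplex.isStrictlyLE_iff _ _).2 fun i hi => HomologicalComplex.isZero_extend_X _ e i
      (fun k => by dsimp [e]; omega), fun n => ?_, inferInstance⟩
  by_cases hn : ∃ i, e.f i = n
  · obtain ⟨i, hi⟩ := hn
    exact hc.iso ((res hc hl hM').extendXIso e hi).symm (class_res hc hl hM' i)
  · exact hc.zero (HomologicalComplex.isZero_extend_X _ e n (by simpa using hn))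

theorem closed_of_isSerreClass [P.IsSerreClass] : Closed P where
  iso e h := P.prop_of_iso e h
  zero h := P.prop_of_isZero h
  biprod h h' := P.prop_biprod h h'
  ker f h _ := P.prop_of_mono (kernel.ι f) h

variable {P} in
/-- a bounded above complex with cohomology in a Serre class receives a quasi-isomorphism from one with terms in it -/
theorem exists_res [P.IsSerreClass] (hl : Lifts P) (M : CochainComplex A ℤ) (b : ℤ) [M.IsStrictlyLE b]
    (hM : ∀ n, P (M.homology n)) :
    ∃ (L : CochainComplex A ℤ) (π : L ⟶ M), L.IsStrictlyLE b ∧ (∀ n, P (L.X n)) ∧ QuasiIso π :=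
  exists_res_weak (closed_of_isSerreClass P) (fun X Y π h h' => by
    obtain ⟨X', i, -, hX', hi⟩ := hl X Y π h h'
    exact ⟨X', i, hX', hi⟩) M b hM

end Groth.L29.SerreRes
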