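import Groth.Agent.L29.Sib.SkyPoint
import Groth.Agent.L29.Sib.InjSum
import Groth.Agent.L16.AffineBC.Pullback

/-!
A non-zero quasi-coherent submodule of an injective module yields a skyscraper injective submodule.
-/

set_option autoImplicit false
set_option backward.isDefEq.respectTransparency false
set_option linter.style.haveILetI false

universe u

open CategoryTheory CategoryTheory.Limits AlgebraicGeometry TopologicalSpace Opposite

namespace Groth.L29.InjSub

open Groth.L29.LocNoeth (st st_germ st_comp st_injective exists_nhd gen genSec exists_smul_germ subsingleton_stalk_gen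
  exists_hom_gen)
open Groth.L20.ModStalk (germ_rs germ_smul)
open Groth.L18.Frame (rs)

variable {X : Scheme.{u}}

theorem germ_eq_zero_of_not_specializes {P : X.Modules} {x z : X}
    (h : ∀ U : X.Opens, x ∉ U → Subsingleton Γ(P, U)) (hz : ¬ x ⤳ z) (w : P.presheaf.stalk z) : w = 0 := by
  obtain ⟨U, hU, hzU, hxU⟩ := not_specializes_iff_exists_open.1 hz
  obtain ⟨V, hzV, s, rfl⟩ := P.presheaf.exists_germ_eq (x := z) w
  haveI := h (V ⊓ ⟨U, hU⟩) fun hh => hxU hh.2
  rw [← germ_rs P (inf_le_left : V ⊓ ⟨U, hU⟩ ≤ V) ⟨hzV, hzU⟩ s,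
    Subsingleton.elim (rs P inf_le_left s) 0, map_zero]

theorem exists_sky_mono [IsLocallyNoetherian X] {N C : X.Modules} [Coh.IsQCoh N] (j : N ⟶ C) [Mono j]
    [Injective C] {y : X} {w : N.presheaf.stalk y} (hw : w ≠ 0) :
    ∃ (P : X.Modules) (ψ : P ⟶ C) (x : X), Mono ψ ∧ Coh.IsQCoh P ∧ Injective P ∧ ¬ IsZero P ∧
      Nontrivial (N.presheaf.stalk x) ∧ ∀ z : X, ¬ x ⤳ z → Subsingleton (P.presheaf.stalk z) := by
  classical
  obtain ⟨W, hyW, s₀, rfl⟩ := N.presheaf.exists_germ_eq (x := y) w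
  obtain ⟨_, ⟨V, hV, rfl⟩, hyV, hVW⟩ := X.isBasis_affineOpens.exists_subset_of_mem_open hyW W.2
  let U := Scheme.Opens.ι (X := X) V ''ᵁ ⊤
  have hUV : U = V := Scheme.Opens.ι_image_top V
  have hU : IsAffineOpen U := hUV ▸ hV
  haveI : IsNoetherianRing Γ(X, U) := IsLocallyNoetherian.component_noetherian ⟨U, hU⟩
  have hne : Nontrivial Γ(N, U) := by
    have hyU : y ∈ U := hUV ▸ hyV
    have h := hw
    rw [← germ_rs N (hUV.le.trans hVW) hyU s₀] at h
    exact nontrivial_of_ne (rs N (hUV.le.trans hVW) s₀) 0 fun h0 => h (by rw [h0, map_zero])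
  obtain ⟨p, hp, f, hf⟩ := Groth.L04.exists_quotient_prime_embedding (R := Γ(X, U)) (E := Γ(N, U))
  let s : Γ(N, U) := f 1
  have hs : ∀ r : Γ(X, U), r • s = 0 ↔ r ∈ p := fun r => by
    show r • f 1 = 0 ↔ _
    rw [← map_smul, Algebra.smul_def, mul_one, Ideal.Quotient.algebraMap_eq, map_eq_zero_iff f hf,
      Ideal.Quotient.eq_zero_iff_mem]
  let x : X := hU.fromSpec ⟨p, hp⟩
  have hxU : x ∈ U := hU.opensRange_fromSpec.le ⟨_, rfl⟩
  have hpx : (hU.primeIdealOf ⟨x, hxU⟩).asIdeal = p := by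
    have := hU.fromSpec.isOpenEmbedding.injective (hU.fromSpec_primeIdealOf ⟨x, hxU⟩)
    rw [this]
  have hmem : ∀ (z : X) (hz : z ∈ U) (b : Γ(X, U)),
      b ∈ (hU.primeIdealOf ⟨z, hz⟩).asIdeal ↔ ¬ IsUnit (X.presheaf.germ U z hz b) := fun z hz b => by
    letI := X.presheaf.algebra_section_stalk ⟨z, hz⟩
    haveI := hU.isLocalization_stalk ⟨z, hz⟩
    exact ((IsLocalization.AtPrime.to_map_mem_maximal_iff (X.presheaf.stalk z)
      (hU.primeIdealOf ⟨z, hz⟩).asIdeal b).symm.trans (IsLocalRing.mem_maximalIdeal _))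
  have hspec : ∀ (z : X) (hz : z ∈ U), x ⤳ z → ∀ b, b ∉ (hU.primeIdealOf ⟨z, hz⟩).asIdeal → b ∉ p := by
    intro z hz hxz b hb
    rw [hmem z hz, not_not, ← Scheme.mem_basicOpen X b z hz] at hb
    rw [← hpx, hmem x hxU, not_not, ← Scheme.mem_basicOpen X b x hxU]
    exact hxz.mem_open (X.basicOpen b).2 hb
  have hfrac : ∀ (z : X) (hz : z ∈ U) (c : X.presheaf.stalk z), ∃ a t : Γ(X, U),
      t ∉ (hU.primeIdealOf ⟨z, hz⟩).asIdeal ∧ c * X.presheaf.germ U z hz t = X.presheaf.germ U z hz a := by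
    intro z hz c
    letI := X.presheaf.algebra_section_stalk ⟨z, hz⟩
    haveI := hU.isLocalization_stalk ⟨z, hz⟩
    obtain ⟨⟨a, t⟩, h⟩ := IsLocalization.surj (hU.primeIdealOf ⟨z, hz⟩).asIdeal.primeCompl c
    exact ⟨a, t.1, t.2, h⟩
  have hNz : ∀ (z : X) (hz : z ∈ U) (a : Γ(X, U)), N.presheaf.germ U z hz (a • s) = 0 →
      ∃ t ∉ (hU.primeIdealOf ⟨z, hz⟩).asIdeal, t * a ∈ p := by
    intro z hz a h
    letI := Groth.L20.ModStalk.stalkModule N hz
    haveI := Groth.L20.ModStalk.isLocalizedModule_germ N hU hz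
    obtain ⟨t, ht⟩ := (IsLocalizedModule.eq_zero_iff (hU.primeIdealOf ⟨z, hz⟩).asIdeal.primeCompl
      (Groth.L20.ModStalk.germₗ N hz)).1 h
    refine ⟨t.1, t.2, (hs _).1 ?_⟩
    rw [mul_smul]
    exact ht
  obtain ⟨H, _, _, i, hi⟩ :=
    Groth.L04.exists_injectiveHull (R := X.presheaf.stalk x) (IsLocalRing.ResidueField (X.presheaf.stalk x))
  obtain ⟨P, e, hPi, hPq, hgerm, hsub⟩ := Groth.L29.SkyInj.push_facts x H i hi
  let e₁ : P.presheaf.stalk x := e (i 1)
  have he₁ : ∀ c : X.presheaf.stalk x, c • e₁ = 0 ↔ c ∈ IsLocalRing.maximalIdeal _ := fun c => by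
    rw [← map_smul, e.map_eq_zero_iff, ← map_smul, map_eq_zero_iff i hi.injective, Algebra.smul_def, mul_one]
    exact IsLocalRing.residue_eq_zero_iff c
  obtain ⟨m, hm⟩ := (hgerm U hxU).2 e₁
  obtain ⟨φ, hφ⟩ := exists_hom_gen (U := (V : X.Opens)) m
  obtain ⟨η, hη⟩ := exists_hom_gen (U := (V : X.Opens)) (j.app U s)
  have hφz : ∀ (z : X) (hz : z ∈ U) (a : Γ(X, U)),
      st φ z ((gen (X := X) V).presheaf.germ U z hz (a • genSec (X := X) V)) = P.presheaf.germ U z hz (a • m) := fun z hz a => by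
    rw [germ_smul, germ_smul, map_smul, st_germ, hφ]
  have hηz : ∀ (z : X) (hz : z ∈ U) (a : Γ(X, U)),
      st η z ((gen (X := X) V).presheaf.germ U z hz (a • genSec (X := X) V)) = st j z (N.presheaf.germ U z hz (a • s)) :=
    fun z hz a => by
    rw [germ_smul, germ_smul, map_smul, map_smul, st_germ, st_germ, hη]
  have hgen : ∀ (z : X) (hz : z ∈ U) (v : (gen (X := X) V).presheaf.stalk z), ∃ a t : Γ(X, U),
      t ∉ (hU.primeIdealOf ⟨z, hz⟩).asIdeal ∧
        X.presheaf.germ U z hz t • v = (gen (X := X) V).presheaf.germ U z hz (a • genSec (X := X) V) := by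
    intro z hz v
    obtain ⟨c, rfl⟩ := exists_smul_germ (U := (V : X.Opens)) hz v
    obtain ⟨a, t, ht, h⟩ := hfrac z hz c
    exact ⟨a, t, ht, by rw [smul_smul, mul_comm, h, germ_smul]⟩
  have hunit : ∀ (z : X) (hz : z ∈ U) (t : Γ(X, U)), t ∉ (hU.primeIdealOf ⟨z, hz⟩).asIdeal →
      IsUnit (X.presheaf.germ U z hz t) := fun z hz t ht => by rwa [hmem z hz, not_not] at ht
  have hPzero : ∀ (z : X) (hz : z ∈ U), x ⤳ z → ∀ a : Γ(X, U), P.presheaf.germ U z hz (a • m) = 0 ↔ a ∈ p := by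
    intro z hz hxz a
    refine ⟨fun h => ?_, fun h => ?_⟩
    · rw [← map_zero (P.presheaf.germ U z hz).hom] at h
      obtain ⟨W', hW', h'⟩ := exists_nhd P hz hz _ _ h
      have h2 := (h' x (hxz.mem_open W'.2 hW') hxU hxU).trans (map_zero _)
      rw [germ_smul, hm, he₁, IsLocalRing.mem_maximalIdeal] at h2
      rwa [← hpx, hmem x hxU]
    · have h2 : P.presheaf.germ U x hxU (a • m) = 0 := by
        rw [germ_smul, hm, he₁, IsLocalRing.mem_maximalIdeal]
        exact (hmem x hxU a).1 (hpx.symm ▸ h)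
      rw [← map_zero (P.presheaf.germ U x hxU).hom] at h2
      rw [(hgerm U hxU).1 h2, map_zero]
  have hker1 : kernel.ι φ ≫ η = 0 := by
    refine Groth.L21.Mod.hom_ext_stalk fun z => ?_
    ext k
    rw [Functor.map_zero]
    change st (kernel.ι φ ≫ η) z k = 0
    rw [st_comp]
    have hv : st φ z (st (kernel.ι φ) z k) = 0 := by
      rw [← st_comp, kernel.condition]
      exact congr(($((DerSch.stalkFunctor X z).map_zero (kernel φ) P)).hom k)
    generalize st (kernel.ι φ) z k = v at hv ⊢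
    by_cases hz : z ∈ U
    · obtain ⟨a, t, ht, hat⟩ := hgen z hz v
      apply (hunit z hz t ht).smul_left_cancel.1
      rw [smul_zero, ← map_smul, hat, hηz, germ_smul]
      by_cases hxz : x ⤳ z
      · have h0 : P.presheaf.germ U z hz (a • m) = 0 := by rw [← hφz, ← hat, map_smul, hv, smul_zero]
        have : a • s = 0 := (hs a).2 ((hPzero z hz hxz a).1 h0)
        rw [← germ_smul, this, map_zero, map_zero]
      · obtain ⟨O, hO, hzO, hxO⟩ := not_specializes_iff_exists_open.1 hxz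
        obtain ⟨b, hbO, hzb⟩ := hU.exists_basicOpen_le (V := ⟨O, hO⟩) ⟨z, hzO⟩ hz
        have hb : b ∈ p := by
          rw [← hpx, hmem x hxU, ← Scheme.mem_basicOpen X b x hxU]
          exact fun h => hxO (hbO h)
        have h1 : N.presheaf.germ U z hz s = 0 := by
          apply ((Scheme.mem_basicOpen X b z hz).1 hzb).smul_left_cancel.1
          rw [← germ_smul, (hs b).2 hb, map_zero, smul_zero]
        rw [h1, smul_zero, map_zero]
    · haveI := subsingleton_stalk_gen (U := (V : X.Opens)) hz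
      rw [Subsingleton.elim v 0, map_zero]
  let π := Abelian.factorThruImage φ
  obtain ⟨θ, hθ'⟩ := CokernelCofork.IsColimit.desc' (Abelian.epiIsCokernelOfKernel _ (kernelIsKernel π)) η (by
    have h3 : kernel.ι π ≫ φ = 0 :=
      (congrArg (fun g => kernel.ι π ≫ g) (Abelian.image.fac φ).symm).trans
        (by rw [kernel.condition_assoc, zero_comp])
    show kernel.ι π ≫ η = 0
    rw [← kernel.lift_ι φ (kernel.ι π) h3, Category.assoc, hker1, comp_zero])
  have hθ : π ≫ θ = η := hθ'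
  let Ψ : P ⟶ C := Injective.factorThru θ (Abelian.image.ι φ)
  have hΨ : φ ≫ Ψ = η := by
    rw [← hθ, ← Injective.comp_factorThru θ (Abelian.image.ι φ), ← Category.assoc, Abelian.image.fac]
  have hΨx : ∀ v : P.presheaf.stalk x, st Ψ x v = 0 → v = 0 := by
    intro v hv
    by_contra hne'
    obtain ⟨r, ⟨c, hc⟩, hr⟩ := Groth.L04.smul_of_isEssentialInj hi.toIsEssentialInj (e.symm v)
      ((map_ne_zero_iff e.symm e.symm.injective).2 hne')
    obtain ⟨c, rfl⟩ := IsLocalRing.residue_surjective c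
    have hc' : r • v = c • e₁ := by
      apply e.symm.injective
      rw [map_smul, map_smul, ← hc, show e₁ = e (i 1) from rfl, e.symm_apply_apply, ← map_smul,
        Algebra.smul_def, mul_one]
      rfl
    obtain ⟨a, t, ht, hat⟩ := hfrac x hxU c
    have h0 : st η x ((gen (X := X) V).presheaf.germ U x hxU (a • genSec (X := X) V)) = 0 := by
      rw [← hΨ, st_comp, hφz, germ_smul, hm, ← hat, mul_comm, mul_smul, ← hc', map_smul, map_smul, hv,
        smul_zero, smul_zero]
    rw [hηz, ← map_zero (st j x)] at h0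
    obtain ⟨t', ht', h'⟩ := hNz x hxU a (st_injective j x h0)
    rw [hpx] at ht'
    have ha : a ∈ p := (hp.mem_or_mem h').resolve_left ht'
    rw [← hpx, hmem x hxU, ← hat] at ha
    have hcu : ¬ IsUnit c := fun h => ha (h.mul (hunit x hxU t ht))
    apply hr
    apply e.injective
    rw [map_zero, map_smul, e.apply_symm_apply, hc', he₁]
    exact hcu
  refine ⟨P, Ψ, x, ?_, hPq, hPi, ?_, ?_, fun z hz => subsingleton_of_forall_eq 0 fun w =>
    germ_eq_zero_of_not_specializes hsub hz w⟩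
  · rw [Groth.L21.Mod.mono_iff_stalk_injective]
    intro z
    refine (injective_iff_map_eq_zero (st Ψ z)).2 fun v hv => ?_
    by_cases hxz : x ⤳ z
    · obtain ⟨O, hzO, σ, rfl⟩ := P.presheaf.exists_germ_eq (x := z) v
      rw [st_germ, ← map_zero (C.presheaf.germ O z hzO).hom] at hv
      obtain ⟨W', hW', h'⟩ := exists_nhd C hzO hzO _ _ hv
      have hxO : x ∈ O := hxz.mem_open O.2 hzO
      have h2 : P.presheaf.germ O x hxO σ = 0 := hΨx _ (by
        rw [st_germ]
        exact (h' x (hxz.mem_open W'.2 hW') hxO hxO).trans (map_zero _))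
      rw [← map_zero (P.presheaf.germ O x hxO).hom] at h2
      rw [(hgerm O hxO).1 h2, map_zero]
    · exact germ_eq_zero_of_not_specializes hsub hxz v
  · intro h
    haveI : Subsingleton (P.presheaf.stalk x) := (Groth.L21.Mod.isZero_iff_stalk_subsingleton P).1 h x
    have := (he₁ 1).1 (Subsingleton.elim _ _)
    exact (IsLocalRing.mem_maximalIdeal _).1 this isUnit_one
  · refine nontrivial_of_ne (N.presheaf.germ U x hxU s) 0 fun h0 => ?_
    obtain ⟨t, ht, ht'⟩ := hNz x hxU 1 (by rw [one_smul]; exact h0)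
    rw [mul_one, ← hpx] at ht'
    exact ht ht'

end Groth.L29.InjSub
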