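import Groth.Agent.L29.Sib.SkyInj
import Groth.Agent.L16.QcqsPush
import Groth.Agent.L04.Matlis
import Groth.Agent.L04.Essential

/-!
The quasi-coherent injective module attached to a point of a locally Noetherian scheme.
-/

set_option autoImplicit false
set_option backward.isDefEq.respectTransparency false
set_option linter.style.haveILetI false

universe u

open CategoryTheory CategoryTheory.Limits AlgebraicGeometry TopologicalSpace Opposite

namespace Groth.L29.SkyInj

variable {X : Scheme.{u}} [IsLocallyNoetherian X]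

theorem push_facts (x : X) (E : Type u) [AddCommGroup E] [Module (X.presheaf.stalk x) E]
    (i : IsLocalRing.ResidueField (X.presheaf.stalk x) →ₗ[X.presheaf.stalk x] E)
    (hi : InjHull.IsInjectiveHull i) :
    ∃ (P : X.Modules) (_ : E ≃ₗ[X.presheaf.stalk x] P.presheaf.stalk x), Injective P ∧ Coh.IsQCoh P ∧
      (∀ (U : X.Opens) (hx : x ∈ U), Function.Bijective (P.presheaf.germ U x hx)) ∧
      ∀ U : X.Opens, x ∉ U → Subsingleton Γ(P, U) := by
  let g := X.fromSpecStalk x
  let O := X.presheaf.stalk x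
  let M : ModuleCat.{u} O := ModuleCat.of O E
  let m : Spec O := IsLocalRing.closedPoint O
  have hm : g m = x := Scheme.fromSpecStalk_closedPoint
  have htor := Groth.L04.hull_isPowerTorsion hi
  have htop : ∀ W : (Spec O).Opens, m ∈ W → W = ⊤ := fun W hW =>
    top_le_iff.1 fun y _ => (IsLocalRing.specializes_closedPoint y).mem_open W.2 hW
  have hE : Function.Bijective (tilde.toOpen M ⊤).hom :=
    (ConcreteCategory.isIso_iff_bijective (tilde.toOpen M ⊤)).1 inferInstance
  have hzero : ∀ W : (Spec O).Opens, m ∉ W → Subsingleton Γ(tilde M, W) := by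
    intro W hW
    refine subsingleton_of_forall_eq 0 fun y => ?_
    refine TopCat.Sheaf.eq_of_locally_eq' ((Groth.L21.Mod.toAbSh (Spec O)).obj (tilde M))
      (fun f : {f : O // PrimeSpectrum.basicOpen f ≤ W} => (PrimeSpectrum.basicOpen f.1 : (Spec O).Opens)) W
      (fun f => homOfLE f.2) (fun q hq => ?_) _ _ fun f => ?_
    · obtain ⟨_, ⟨f, rfl⟩, hqf, hfW⟩ := TopologicalSpace.Opens.isBasis_iff_nbhd.1 PrimeSpectrum.isBasis_basic_opens hq
      exact TopologicalSpace.Opens.mem_iSup.2 ⟨⟨f, hfW⟩, hqf⟩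
    · have hf : f.1 ∈ IsLocalRing.maximalIdeal O := by_contra fun h => hW (f.2 h)
      haveI : Subsingleton Γ(tilde M, PrimeSpectrum.basicOpen f.1) :=
        Groth.L29.SkyInj.subsingleton_basicOpen M f.1 fun e => by
          obtain ⟨n, hn⟩ := htor e
          exact ⟨n, hn _ (Ideal.pow_mem_pow hf n)⟩
      exact @Subsingleton.elim Γ(tilde M, PrimeSpectrum.basicOpen f.1) this _ _
  have htopiff : ∀ U : X.Opens, x ∈ U → g ⁻¹ᵁ U = ⊤ := fun U hU => htop _ (show g m ∈ U from hm.symm ▸ hU)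
  let P := (Scheme.Modules.pushforward g).obj (tilde M)
  have hres : ∀ (U V : X.Opens) (h : V ≤ U), x ∈ V → Function.Bijective (Groth.L18.Frame.rs P h) := by
    intro U V h hV
    have he : g ⁻¹ᵁ U ≤ g ⁻¹ᵁ V := by rw [htopiff V hV]; exact le_top
    refine Function.bijective_iff_has_inverse.2 ⟨fun s => Groth.L18.Frame.rs (tilde M) he s, fun s => ?_, fun s => ?_⟩
    · exact (Groth.L18.Frame.rs_rs (tilde M) _ _ _).trans (Groth.L18.Frame.rs_self _ _ _)
    · exact (Groth.L18.Frame.rs_rs (tilde M) _ _ _).trans (Groth.L18.Frame.rs_self _ _ _)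
  have hgerm : ∀ (U : X.Opens) (hU : x ∈ U), Function.Bijective (P.presheaf.germ U x hU) := by
    intro U hU
    refine ⟨fun a b hab => ?_, fun s => ?_⟩
    · obtain ⟨W, hW, i₁, i₂, h⟩ := TopCat.Presheaf.germ_eq P.presheaf x hU hU a b hab
      exact (hres U W i₁.le hW).1 h
    · obtain ⟨W, hW, s', rfl⟩ := P.presheaf.exists_germ_eq (x := x) s
      obtain ⟨t, ht⟩ := (hres U (U ⊓ W) inf_le_left ⟨hU, hW⟩).2 (Groth.L18.Frame.rs P inf_le_right s')
      refine ⟨t, ?_⟩
      rw [← Groth.L20.ModStalk.germ_rs P inf_le_left ⟨hU, hW⟩ t, ht, Groth.L20.ModStalk.germ_rs]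
  let ψ : E → P.presheaf.stalk x := fun e => P.presheaf.germ ⊤ x trivial ((tilde.toOpen M (g ⁻¹ᵁ ⊤)).hom e)
  have hψ : Function.Bijective ψ := (hgerm ⊤ trivial).comp hE
  have hsmul : ∀ (r : O) (e : E), ψ (r • e) = r • ψ e := by
    intro r e
    obtain ⟨U, hU, a, rfl⟩ := TopCat.Presheaf.exists_germ_eq (F := X.presheaf) (x := x) r
    have hU' : ∀ e' : E, ψ e' = P.presheaf.germ U x hU ((tilde.toOpen M (g ⁻¹ᵁ U)).hom e') := fun e' => by
      refine (Groth.L20.ModStalk.germ_rs P (le_top : U ≤ ⊤) hU _).symm.trans ?_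
      exact congrArg (P.presheaf.germ U x hU) (ConcreteCategory.congr_hom
        (tilde.toOpen_res M (g ⁻¹ᵁ ⊤) (g ⁻¹ᵁ U) (homOfLE fun _ _ => trivial)) e')
    rw [hU', hU', map_smul]
    refine Eq.trans (congrArg _ ?_) (Groth.L20.ModStalk.germ_smul P hU a _)
    refine (IsScalarTower.algebraMap_smul Γ(Spec O, g ⁻¹ᵁ U) (X.presheaf.germ U x hU a)
      (show Γ(tilde M, g ⁻¹ᵁ U) from (tilde.toOpen M (g ⁻¹ᵁ U)).hom e)).symm.trans ?_
    show _ = g.app U a • (show Γ(tilde M, g ⁻¹ᵁ U) from (tilde.toOpen M (g ⁻¹ᵁ U)).hom e)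
    rw [Scheme.fromSpecStalk_app hU]
    rfl
  let e : E ≃ₗ[X.presheaf.stalk x] P.presheaf.stalk x :=
    LinearEquiv.ofBijective
      { toFun := ψ, map_add' := fun a b => by simp only [ψ, map_add], map_smul' := hsmul } hψ
  refine ⟨P, e, ?_, ?_, hgerm, fun U hU => hzero _ (show g m ∉ U from hm.symm ▸ hU)⟩
  · exact Groth.L29.SkyInj.injective_of_sky P x Set.univ
      (TopologicalSpace.Opens.isBasis_iff_nbhd.2 fun {U y} hy => ⟨U, trivial, hy, le_rfl⟩)
      (fun U _ hU => hgerm U hU) (fun U _ hU => hzero _ (show g m ∉ U from hm.symm ▸ hU))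
      (Groth.L04.injective_of_linearEquiv e hi.isInjective)
  · haveI : Coh.IsQCoh (tilde M) := inferInstance
    haveI : QuasiCompact g := quasiCompact_of_compactSpace g
    exact Groth.L16.QcqsPush.isQCoh_push (tilde M) g

end Groth.L29.SkyInj
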